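import Cfsg.Agent.ZN.ChoiceSit
import Cfsg.Agent.MinSimple.VModule

/-!
# N6, THEOREM V (#19783, #20508 A1): a minimal parabolic acting on an elementary abelian 2-group

`Ab T R ρ` : `R` is a minimal parabolic over its Sylow 2-subgroup `T`, `ρ : R → Aut(V)`, `V` elementary abelian,
generated by the `R`-conjugates of the `T`-fixed points, one of which is moved.
`Gm X = V ⋊ X` for `X = ρ(R)`, `VV X` the copy of `V`, `TT` the preimage of `ρ(T)`:

* `Ab.core` : `O₂(ρ(R)) = 1`;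
* `Ab.syl'`, `Ab.minPar'`, `Ab.char2'`, `Ab.zl_eq` : `TT` is a Sylow 2-subgroup of `V ⋊ X`, `V ⋊ X` is a minimal
  parabolic over `TT` of characteristic 2, `zl TT ⊤ = V`.
-/

set_option autoImplicit false

namespace Cfsg.Agent.Omega.NSix.Cen.Hol

open Subgroup Cfsg Cfsg.Agent.ZN Cfsg.Agent.ZN.ChoiceSit
open Cfsg.Agent.MinSimple.MinParabolic (IsMinPar)
open Cfsg.Agent.MinSimple.VModule (mem_zc zc_le_zl le_normalizer_zl)

universe u

variable {G : Type u} [Group G] {T R : Subgroup G} {V : Type u} [Group V]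

theorem syl_of_not_dvd' {A : Type*} [Group A] [Finite A] {T X : Subgroup A} (hTX : T ≤ X)
    (hT : IsPGroup 2 T) (h : ¬ 2 ∣ T.relIndex X) : Syl T X := by
  have hf : Fact (Nat.Prime 2) := ⟨Nat.prime_two⟩
  refine ⟨hTX, hT, fun Q hQX hQ hTQ => ?_⟩
  obtain ⟨k, hk⟩ := hQ.index (T.subgroupOf Q)
  have h1 : T.relIndex Q ∣ T.relIndex X := by
    rw [← relIndex_mul_relIndex T Q X hTQ hQX]
    exact dvd_mul_right _ _
  have h2 : T.relIndex Q = 1 := by
    change T.relIndex Q = 2 ^ k at hk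
    rcases Nat.eq_zero_or_pos k with h0 | h0
    · rw [hk, h0, pow_zero]
    · exfalso
      apply h
      refine dvd_trans ?_ h1
      rw [hk]
      exact dvd_pow_self 2 (by omega)
  exact le_antisymm (relIndex_eq_one.1 h2) hTQ

theorem syl_map' {A B : Type*} [Group A] [Group B] [Finite A] [Finite B] (f : A →* B)
    {T X : Subgroup A} (h : Syl T X) : Syl (T.map f) (X.map f) := by
  refine syl_of_not_dvd' (map_mono h.1) (h.2.1.map f) fun h0 => syl_not_dvd h (h0.trans ?_)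
  rw [← relIndex_comap]
  exact relIndex_dvd_of_le_left _ (le_comap_map f T)

/-- `R`, a minimal parabolic over its Sylow 2-subgroup `T`, acts on the elementary abelian 2-group `V`. -/
structure Ab (T R : Subgroup G) (ρ : R →* MulAut V) : Prop where
  syl : Syl T R
  mp : IsMinPar T R
  comm : ∀ v w : V, v * w = w * v
  sq : ∀ v : V, v * v = 1
  gen : ∀ U : Subgroup V, (∀ v : V, (∀ t : R, (t : G) ∈ T → ρ t v = v) → ∀ x : R, ρ x v ∈ U) → U = ⊤
  nfix : ∃ v : V, (∀ t : R, (t : G) ∈ T → ρ t v = v) ∧ ∃ x : R, ρ x v ≠ v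

/-- the elements of `R` acting as elements of `N` -/
def lw (ρ : R →* MulAut V) (N : Subgroup (MulAut V)) : Subgroup G := (N.comap ρ).map R.subtype

theorem mem_lw {ρ : R →* MulAut V} {N : Subgroup (MulAut V)} {g : G} :
    g ∈ lw ρ N ↔ ∃ h : g ∈ R, ρ ⟨g, h⟩ ∈ N := by
  constructor
  · rintro ⟨x, hx, rfl⟩
    exact ⟨x.2, hx⟩
  · rintro ⟨h, hx⟩
    exact ⟨⟨g, h⟩, hx, rfl⟩

theorem lw_le {ρ : R →* MulAut V} {N : Subgroup (MulAut V)} : lw ρ N ≤ R := map_subtype_le _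

theorem lw_norm {ρ : R →* MulAut V} {N : Subgroup (MulAut V)} (hN : ρ.range ≤ normalizer (N : Set (MulAut V))) :
    R ≤ normalizer (lw ρ N : Set G) := by
  have key : ∀ x ∈ R, ∀ g ∈ lw ρ N, x * g * x⁻¹ ∈ lw ρ N := by
    intro x hx g hg
    obtain ⟨h, h1⟩ := mem_lw.1 hg
    refine mem_lw.2 ⟨R.mul_mem (R.mul_mem hx h) (R.inv_mem hx), ?_⟩
    have e : (⟨x * g * x⁻¹, R.mul_mem (R.mul_mem hx h) (R.inv_mem hx)⟩ : R) = ⟨x, hx⟩ * ⟨g, h⟩ * ⟨x, hx⟩⁻¹ := rfl
    rw [e, map_mul, map_mul, map_inv]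
    exact (mem_normalizer_iff.1 (hN ⟨⟨x, hx⟩, rfl⟩) _).1 h1
  intro x hx
  rw [mem_normalizer_iff]
  refine fun g => ⟨key x hx g, fun hg => ?_⟩
  have h1 := key x⁻¹ (R.inv_mem hx) _ hg
  have e : x⁻¹ * (x * g * x⁻¹) * x⁻¹⁻¹ = g := by group
  rwa [e] at h1

/-- the image of `A ≤ R` in `Aut(V)` -/
def mg (ρ : R →* MulAut V) (A : Subgroup G) : Subgroup (MulAut V) := (A.subgroupOf R).map ρ

theorem mem_mg {ρ : R →* MulAut V} {A : Subgroup G} {α : MulAut V} :
    α ∈ mg ρ A ↔ ∃ a : R, (a : G) ∈ A ∧ ρ a = α := by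
  constructor
  · rintro ⟨a, ha, rfl⟩
    exact ⟨a, mem_subgroupOf.1 ha, rfl⟩
  · rintro ⟨a, ha, rfl⟩
    exact ⟨a, mem_subgroupOf.2 ha, rfl⟩

theorem mg_le {ρ : R →* MulAut V} {A : Subgroup G} : mg ρ A ≤ ρ.range := by
  rintro _ ⟨a, -, rfl⟩
  exact ⟨a, rfl⟩

/-- the points fixed by `A` -/
def fx (ρ : R →* MulAut V) (A : Subgroup G) : Subgroup V where
  carrier := {v | ∀ a : R, (a : G) ∈ A → (ρ a) v = v}
  one_mem' := fun a _ => map_one (ρ a)
  mul_mem' := fun {v w} hv hw a ha => by rw [map_mul, hv a ha, hw a ha]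
  inv_mem' := fun {v} hv a ha => by rw [map_inv, hv a ha]

/-- the stabilizer of `v` -/
def stb (v : V) : Subgroup (MulAut V) where
  carrier := {α | α v = v}
  one_mem' := rfl
  mul_mem' := fun {α β} hα hβ => by
    change (α * β) v = v
    rw [MulAut.mul_apply, show β v = v from hβ, show α v = v from hα]
  inv_mem' := fun {α} hα => by
    change α⁻¹ v = v
    conv_lhs => rw [← show α v = v from hα]
    rw [← MulAut.mul_apply, inv_mul_cancel, MulAut.one_apply]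

namespace Ab

variable [Finite G] [Finite V] {ρ : R →* MulAut V}

omit [Finite G] [Finite V] in
/-- `R` is not generated by `T` and elements acting as elements of `T`. -/
theorem sup_ne (h : Ab T R ρ) {K : Subgroup G} (hKR : K ≤ R) (hK : ∀ k : R, (k : G) ∈ K → ρ k ∈ mg ρ T) :
    ¬ R ≤ K ⊔ T := by
  intro h0
  obtain ⟨v, hv, x, hx⟩ := h.nfix
  have h1 : mg ρ T ≤ stb v := by
    intro α hα
    obtain ⟨a, ha, rfl⟩ := mem_mg.1 hα
    exact hv a ha
  have h2 : K ⊔ T ≤ lw ρ (stb v) := by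
    refine sup_le (fun k hk => mem_lw.2 ⟨hKR hk, h1 (hK _ hk)⟩) fun t ht => mem_lw.2 ⟨h.mp.le ht, ?_⟩
    exact hv _ ht
  obtain ⟨y, hy⟩ := mem_lw.1 (h2 (h0 x.2))
  exact hx hy

omit [Finite V] in
/-- the dichotomy for normal subgroups of `R` -/
theorem inf_le (h : Ab T R ρ) {K : Subgroup G} (hKR : K ≤ R) (hKn : R ≤ normalizer (K : Set G))
    (hK : ∀ k : R, (k : G) ∈ K → ρ k ∈ mg ρ T) : T ⊓ K ≤ o2 R := by
  have : Fact (Nat.Prime 2) := ⟨Nat.prime_two⟩
  rcases h.mp.sup_eq_or_inf_le h.syl.2.1 (syl_not_dvd h.syl) hKR hKn with h1 | h1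
  · exact absurd h1.ge (h.sup_ne hKR hK)
  · exact h1

omit [Finite V] in
/-- `O₂(R)` acts trivially. -/
theorem o2_triv (h : Ab T R ρ) {a : R} (ha : (a : G) ∈ o2 R) : ρ a = 1 := by
  have h1 : fx ρ (o2 R) = ⊤ := by
    apply h.gen
    intro v hv x b hb
    have h2 : ((x⁻¹ * b * x : R) : G) ∈ o2 R := by
      have := (mem_normalizer_iff.1 (ChoiceSit.le_normalizer_o2 R (R.inv_mem x.2)) _).1 hb
      rw [inv_inv] at this
      exact this
    have h3 : ρ (x⁻¹ * b * x) v = v := hv _ (o2_le_syl h.syl h2)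
    rw [map_mul, map_mul, map_inv, MulAut.mul_apply, MulAut.mul_apply] at h3
    have h4 := congrArg (ρ x) h3
    rwa [← MulAut.mul_apply, mul_inv_cancel, MulAut.one_apply] at h4
  ext v
  have h2 : v ∈ fx ρ (o2 R) := by rw [h1]; exact mem_top _
  exact h2 a ha

/-- `ρ(T)` is a Sylow 2-subgroup of `ρ(R)`. -/
theorem syl_mg (h : Ab T R ρ) : Syl (mg ρ T) ρ.range := by
  have h1 : Syl (T.subgroupOf R) (⊤ : Subgroup R) := by
    refine ⟨le_top, h.syl.2.1.comap_subtype, fun Q _ hQ2 hle => ?_⟩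
    have h1 : Q.map R.subtype = T := by
      refine h.syl.2.2 _ (map_subtype_le _) (hQ2.map _) ?_
      intro t ht
      exact ⟨⟨t, h.mp.le ht⟩, hle (mem_subgroupOf.2 ht), rfl⟩
    rw [← h1, Subgroup.subgroupOf, comap_map_eq_self_of_injective (Subgroup.subtype_injective _)]
  have h2 := syl_map' ρ h1
  rwa [← MonoidHom.range_eq_map] at h2

/-- a 2-subgroup of `ρ(R)` normalised by `ρ(R)` is trivial -/
theorem core (h : Ab T R ρ) {N : Subgroup (MulAut V)} (hN : N ≤ ρ.range) (hN2 : IsPGroup 2 N)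
    (hNn : ρ.range ≤ normalizer (N : Set (MulAut V))) : N = ⊥ := by
  have : Fact (Nat.Prime 2) := ⟨Nat.prime_two⟩
  have hNT : N ≤ mg ρ T := by
    have h1 : IsPGroup 2 (mg ρ T ⊔ N : Subgroup (MulAut V)) :=
      IsPGroup.to_sup_of_normal_right' h.syl_mg.2.1 hN2 (h.syl_mg.1.trans hNn)
    have h2 := h.syl_mg.2.2 _ (sup_le h.syl_mg.1 hN) h1 le_sup_left
    rw [← h2]
    exact le_sup_right
  have h1 : T ⊓ lw ρ N ≤ o2 R := by
    refine h.inf_le lw_le (lw_norm hNn) fun k hk => ?_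
    obtain ⟨_, h2⟩ := mem_lw.1 hk
    exact hNT h2
  rw [eq_bot_iff]
  intro α hα
  obtain ⟨a, ha, rfl⟩ := mem_mg.1 (hNT hα)
  exact h.o2_triv (h1 ⟨ha, mem_lw.2 ⟨a.2, hα⟩⟩)

end Ab

/-! ### `V ⋊ X` -/

/-- `V ⋊ X` -/
abbrev Gm (X : Subgroup (MulAut V)) : Type u := V ⋊[X.subtype] X

instance [Finite V] (X : Subgroup (MulAut V)) : Finite (Gm X) :=
  Finite.of_equiv _ SemidirectProduct.equivProd.symm

/-- the preimage of `A` in `V ⋊ X` -/
def pre (X A : Subgroup (MulAut V)) : Subgroup (Gm X) := (A.subgroupOf X).comap SemidirectProduct.rightHom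

theorem mem_pre {X A : Subgroup (MulAut V)} {x : Gm X} : x ∈ pre X A ↔ (x.right : MulAut V) ∈ A := Iff.rfl

/-- `V` in `V ⋊ X` -/
def inV (X : Subgroup (MulAut V)) : V →* Gm X := SemidirectProduct.inl

theorem inV_inj (X : Subgroup (MulAut V)) : Function.Injective (inV X) := SemidirectProduct.inl_injective

theorem eq_inV {X : Subgroup (MulAut V)} {x : Gm X} (hx : x.right = 1) : x = inV X x.left := by
  apply SemidirectProduct.ext
  · rfl
  · exact hx

theorem mem_range_inV {X : Subgroup (MulAut V)} {x : Gm X} : x ∈ (inV X).range ↔ x.right = 1 := by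
  constructor
  · rintro ⟨v, rfl⟩; rfl
  · intro h; exact ⟨x.left, (eq_inV h).symm⟩

section comm

variable {X : Subgroup (MulAut V)} (hc : ∀ v w : V, v * w = w * v)
include hc

theorem conj_inV (x : Gm X) (v : V) : x * inV X v * x⁻¹ = inV X ((x.right : MulAut V) v) := by
  apply SemidirectProduct.ext
  · simp only [SemidirectProduct.mul_left, SemidirectProduct.mul_right, SemidirectProduct.inv_left,
      inV, SemidirectProduct.left_inl, SemidirectProduct.right_inl, mul_one, Subgroup.coe_subtype, map_inv]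
    rw [← MulAut.mul_apply, ← Subgroup.coe_inv, ← Subgroup.coe_mul, mul_inv_cancel, Subgroup.coe_one,
      MulAut.one_apply, hc x.left, mul_inv_cancel_right]
  · simp [inV]

theorem comm_inV_iff (x : Gm X) (v : V) : x * inV X v = inV X v * x ↔ (x.right : MulAut V) v = v := by
  rw [← mul_inv_eq_iff_eq_mul, conj_inV hc, (inV_inj X).eq_iff]

theorem cent_inV {x : Gm X} (h : ∀ v : V, x * inV X v = inV X v * x) : x.right = 1 := by
  apply Subtype.ext
  ext v
  exact (comm_inV_iff hc x v).1 (h v)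

end comm

namespace Ab

variable [Finite G] [Finite V] {ρ : R →* MulAut V}

omit [Finite G] [Finite V] in
theorem inV_le_pre {X A : Subgroup (MulAut V)} : (inV X).range ≤ pre X A := by
  intro x hx
  rw [mem_pre, mem_range_inV.1 hx, Subgroup.coe_one]
  exact one_mem _

omit [Finite G] [Finite V] in
theorem inV_pgroup (h : Ab T R ρ) (X : Subgroup (MulAut V)) : IsPGroup 2 (inV X).range := by
  rintro ⟨_, v, rfl⟩
  refine ⟨1, Subtype.ext ?_⟩
  change (inV X v) ^ 2 ^ 1 = 1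
  rw [pow_one, pow_two, ← map_mul, h.sq, map_one]

omit [Finite G] [Finite V] in
theorem inV_norm (X : Subgroup (MulAut V)) : (⊤ : Subgroup (Gm X)) ≤ normalizer ((inV X).range : Set (Gm X)) := by
  have h1 : (inV X).range = (SemidirectProduct.rightHom : Gm X →* X).ker := by
    ext x
    rw [mem_range_inV, MonoidHom.mem_ker]
    rfl
  rw [h1]
  have : (SemidirectProduct.rightHom : Gm X →* X).ker.Normal := MonoidHom.normal_ker _
  rw [normalizer_eq_top]

omit [Finite G] [Finite V] in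
theorem pre_pgroup (h : Ab T R ρ) {X A : Subgroup (MulAut V)} (hA : IsPGroup 2 A) : IsPGroup 2 (pre X A) := by
  rintro ⟨x, hx⟩
  obtain ⟨n, hn⟩ := hA ⟨_, mem_pre.1 hx⟩
  have hn' : ((x.right : MulAut V)) ^ 2 ^ n = 1 := congrArg Subtype.val hn
  have h1 : (x ^ 2 ^ n).right = 1 := by
    have e : (x ^ 2 ^ n).right = x.right ^ 2 ^ n := map_pow (SemidirectProduct.rightHom : Gm X →* X) x _
    rw [e]
    exact Subtype.ext hn'
  obtain ⟨m, hm⟩ := h.inV_pgroup X ⟨_, mem_range_inV.2 h1⟩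
  have hm' : (x ^ 2 ^ n) ^ 2 ^ m = 1 := congrArg Subtype.val hm
  refine ⟨n + m, Subtype.ext ?_⟩
  rw [Subgroup.coe_pow, Subgroup.coe_one, pow_add, pow_mul]
  exact hm'

/-- `TT = V ρ(T)` -/
def TT (T : Subgroup G) (ρ : R →* MulAut V) : Subgroup (Gm ρ.range) := pre ρ.range (mg ρ T)

omit [Finite G] [Finite V] in
theorem mem_TT {x : Gm ρ.range} : x ∈ TT T ρ ↔ ∃ a : R, (a : G) ∈ T ∧ ρ a = x.right := mem_mg

omit [Finite G] [Finite V] in
theorem map_right {X : Subgroup (MulAut V)} (K : Subgroup (Gm X)) (hK : (inV X).range ≤ K) {x : Gm X}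
    (h : x.right ∈ K.map (SemidirectProduct.rightHom : Gm X →* X)) : x ∈ K := by
  obtain ⟨z, hz, hzx⟩ := h
  have h1 : z⁻¹ * x ∈ (inV X).range := by
    rw [mem_range_inV, SemidirectProduct.mul_right, SemidirectProduct.inv_right, ← hzx]
    exact inv_mul_cancel _
  have h2 := K.mul_mem hz (hK h1)
  rwa [mul_inv_cancel_left] at h2

theorem syl' (h : Ab T R ρ) : Syl (TT T ρ) (⊤ : Subgroup (Gm ρ.range)) := by
  refine ⟨le_top, h.pre_pgroup h.syl_mg.2.1, fun Q _ hQ2 hle => ?_⟩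
  have h1 := h.syl_mg
  set f : Gm ρ.range →* MulAut V := ρ.range.subtype.comp SemidirectProduct.rightHom with hf
  have h3 : Q.map f = mg ρ T := by
    refine h1.2.2 _ ?_ (hQ2.map _) ?_
    · rintro _ ⟨q, hq, rfl⟩
      exact q.right.2
    · intro α hα
      refine ⟨SemidirectProduct.inr ⟨α, mg_le hα⟩, hle ?_, rfl⟩
      exact hα
  apply le_antisymm _ hle
  intro q hq
  change f q ∈ mg ρ T
  rw [← h3]
  exact ⟨q, hq, rfl⟩

theorem minPar' (h : Ab T R ρ) : IsMinPar (TT T ρ) (⊤ : Subgroup (Gm ρ.range)) := by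
  refine ⟨le_top, fun h0 => ?_, ?_⟩
  · -- `ρ(T)` is normal in `ρ(R)`, so trivial
    have h1 : ρ.range ≤ normalizer (mg ρ T : Set (MulAut V)) := by
      have key : ∀ α ∈ ρ.range, ∀ β ∈ mg ρ T, α * β * α⁻¹ ∈ mg ρ T := by
        intro α hα β hβ
        have h2 := (mem_normalizer_iff.1 (h0 (mem_top (SemidirectProduct.inr ⟨α, hα⟩))) 
          (SemidirectProduct.inr ⟨β, mg_le hβ⟩)).1 hβ
        rw [← map_mul, ← map_inv, ← map_mul] at h2
        exact h2
      intro α hα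
      rw [mem_normalizer_iff]
      refine fun β => ⟨key α hα β, fun hβ => ?_⟩
      have h2 := key α⁻¹ (inv_mem hα) _ hβ
      have e : α⁻¹ * (α * β * α⁻¹) * α⁻¹⁻¹ = β := by group
      rwa [e] at h2
    have h2 := h.core h.syl_mg.1 h.syl_mg.2.1 h1
    have h3 : T ⊓ lw ρ ⊥ ≤ o2 R := by
      refine h.inf_le lw_le (lw_norm ?_) fun k hk => ?_
      · rw [normalizer_eq_top]; exact le_top
      · obtain ⟨_, h4⟩ := mem_lw.1 hk
        rw [mem_bot] at h4
        rw [h4]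
        exact one_mem _
    have h4 : T ≤ o2 R := by
      intro t ht
      refine h3 ⟨ht, mem_lw.2 ⟨h.mp.le ht, ?_⟩⟩
      rw [← h2]
      exact mem_mg.2 ⟨_, ht, rfl⟩
    apply h.mp.not_le
    rw [le_antisymm h4 (o2_le_syl h.syl)]
    exact ChoiceSit.le_normalizer_o2 R
  · obtain ⟨M, hM, hmax⟩ := h.mp.exists_max
    have hker : lw ρ ⊥ ≤ M := by
      refine le_sup_left.trans (hmax (lw ρ ⊥ ⊔ T) le_sup_right (lt_of_le_of_ne (sup_le lw_le h.mp.le) fun h0 => ?_))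
      refine h.sup_ne (K := lw ρ ⊥) lw_le (fun k hk => ?_) h0.ge
      obtain ⟨_, h4⟩ := mem_lw.1 hk
      rw [mem_bot] at h4
      rw [h4]
      exact one_mem _
    refine ⟨pre ρ.range (mg ρ M), lt_of_le_of_ne le_top fun h0 => hM.not_ge ?_, fun K hK1 hK2 => ?_⟩
    · intro r hr
      have h1 : (SemidirectProduct.inr ⟨ρ ⟨r, hr⟩, ⟨_, rfl⟩⟩ : Gm ρ.range) ∈ pre ρ.range (mg ρ M) := by
        rw [h0]; exact mem_top _
      obtain ⟨m, hm, h2⟩ := mem_mg.1 (mem_pre.1 h1)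
      have h3 : (m⁻¹ * ⟨r, hr⟩ : R) ∈ ρ.ker := by
        rw [MonoidHom.mem_ker, map_mul, map_inv, h2]
        exact inv_mul_cancel _
      have h4 : (m : G)⁻¹ * r ∈ M := hker (mem_lw.2 ⟨(m⁻¹ * ⟨r, hr⟩ : R).2, h3⟩)
      have h5 := M.mul_mem hm h4
      rwa [mul_inv_cancel_left] at h5
    · set f : Gm ρ.range →* MulAut V := ρ.range.subtype.comp SemidirectProduct.rightHom with hf
      have hVK : (inV ρ.range).range ≤ K := inV_le_pre.trans hK1
      have hmem : ∀ x : Gm ρ.range, f x ∈ K.map f → x ∈ K := by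
        rintro x ⟨z, hz, hzx⟩
        exact map_right K hVK ⟨z, hz, Subtype.ext hzx⟩
      have h1 : lw ρ (K.map f) < R := by
        refine lt_of_le_of_ne lw_le fun h0 => hK2.not_ge ?_
        intro x _
        apply hmem
        obtain ⟨r, hr⟩ := x.right.2
        obtain ⟨_, h3⟩ := mem_lw.1 (h0.ge r.2)
        have e : f x = ρ r := hr.symm
        rw [e]
        exact h3
      have h2 := hmax (lw ρ (K.map f)) (fun t ht => mem_lw.2 ⟨h.mp.le ht,
        ⟨SemidirectProduct.inr ⟨ρ ⟨t, h.mp.le ht⟩, ⟨_, rfl⟩⟩, hK1 (mem_TT.2 ⟨⟨t, h.mp.le ht⟩, ht, rfl⟩), rfl⟩⟩) h1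
      intro x hx
      obtain ⟨r, hr⟩ := x.right.2
      refine mem_pre.2 (mem_mg.2 ⟨r, h2 (mem_lw.2 ⟨r.2, x, hx, hr.symm⟩), hr⟩)

omit [Finite G] in
theorem char2' (h : Ab T R ρ) : (⊤ : Subgroup (Gm ρ.range)) ⊓ centralizer (o2 (⊤ : Subgroup (Gm ρ.range)) :
    Set (Gm ρ.range)) ≤ o2 (⊤ : Subgroup (Gm ρ.range)) := by
  have h1 : (inV ρ.range).range ≤ o2 (⊤ : Subgroup (Gm ρ.range)) :=
    le_o2 (h.inV_pgroup _) le_top (inV_norm _)
  rintro x ⟨-, hx⟩
  apply h1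
  rw [mem_range_inV]
  apply cent_inV h.comm
  intro v
  exact ((mem_centralizer_iff.1 hx) _ (h1 ⟨v, rfl⟩)).symm

omit [Finite G] [Finite V] in
theorem mem_zc' (h : Ab T R ρ) {x : Gm ρ.range} : x ∈ zc (TT T ρ) ↔ ∃ v ∈ fx ρ T, inV ρ.range v = x := by
  rw [mem_zc]
  constructor
  · rintro ⟨-, h2, -⟩
    have h1 : x.right = 1 := cent_inV h.comm fun v => (h2 _ (inV_le_pre ⟨v, rfl⟩)).symm
    refine ⟨x.left, fun a ha => ?_, (eq_inV h1).symm⟩
    have h3 := h2 (SemidirectProduct.inr ⟨ρ a, ⟨a, rfl⟩⟩) (mem_TT.2 ⟨a, ha, rfl⟩)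
    rw [eq_inV h1] at h3
    exact (comm_inV_iff h.comm _ _).1 h3
  · rintro ⟨v, hv, rfl⟩
    refine ⟨inV_le_pre ⟨v, rfl⟩, fun b hb => ?_, by rw [pow_two, ← map_mul, h.sq, map_one]⟩
    obtain ⟨a, ha, h1⟩ := mem_TT.1 hb
    rw [comm_inV_iff h.comm, ← h1]
    exact hv a ha

omit [Finite G] [Finite V] in
/-- `zl TT ⊤ = V` -/
theorem zl_eq (h : Ab T R ρ) : zl (TT T ρ) (⊤ : Subgroup (Gm ρ.range)) = (inV ρ.range).range := by
  apply le_antisymm
  · refine MinSimple.VModule.zl_le ?_ (inV_norm _)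
    intro x hx
    obtain ⟨v, -, rfl⟩ := h.mem_zc'.1 hx
    exact ⟨v, rfl⟩
  · have h1 : (zl (TT T ρ) (⊤ : Subgroup (Gm ρ.range))).comap (inV ρ.range) = ⊤ := by
      apply h.gen
      intro v hv x
      rw [mem_comap]
      have h2 : inV ρ.range v ∈ zl (TT T ρ) (⊤ : Subgroup (Gm ρ.range)) :=
        MinSimple.VModule.zc_le_zl _ _ (h.mem_zc'.2 ⟨v, hv, rfl⟩)
      have h3 := (mem_normalizer_iff.1 (le_normalizer_zl (TT T ρ) (⊤ : Subgroup (Gm ρ.range))
        (mem_top (SemidirectProduct.inr ⟨ρ x, ⟨x, rfl⟩⟩ : Gm ρ.range))) _).1 h2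
      rw [conj_inV h.comm] at h3
      exact h3
    rintro _ ⟨v, rfl⟩
    have : v ∈ (zl (TT T ρ) (⊤ : Subgroup (Gm ρ.range))).comap (inV ρ.range) := by rw [h1]; exact mem_top _
    exact this

end Ab

end Cfsg.Agent.Omega.NSix.Cen.Hol
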