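import Cfsg.Agent.Omega.NSix.Cen.QDef
import Cfsg.Agent.Omega.NSix.Cen.Hol

/-!
# N6, THEOREM V (#19783, #20508 A1): the model `(W / C) ⋊ (R / C_R(W / C))`

* `exists_model` : `QDat T R W C` has a model.
-/

set_option autoImplicit false

namespace Cfsg.Agent.Omega.NSix.Cen

open Subgroup Cfsg Cfsg.Agent.ZN.ChoiceSit
open Cfsg.Agent.ZN (zc zl o2)
open Cfsg.Agent.MinSimple.MinParabolic (IsMinPar)

universe u

variable {G : Type u} [Group G] {T R W C : Subgroup G}

namespace QDat

theorem normC (D : QDat T R W C) : (C.subgroupOf W).Normal := by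
  refine ⟨fun c hc w => ?_⟩
  have e : w * c * w⁻¹ = c := by
    apply Subtype.ext
    change (w : G) * c * (w : G)⁻¹ = c
    rw [D.ab _ w.2 _ c.2, mul_inv_cancel_right]
  rwa [e]

/-- the action of `R` on `W` -/
def actW (D : QDat T R W C) : R →* MulAut W := W.normalizerMonoidHom.comp (inclusion D.nW)

theorem coe_actW (D : QDat T R W C) (g : R) (w : W) : ((D.actW g w : W) : G) = g * w * (g : G)⁻¹ := rfl

variable [hn : (C.subgroupOf W).Normal]

/-- the action of `R` on `W / C` -/
noncomputable def rho (D : QDat T R W C) : R →* MulAut (W ⧸ C.subgroupOf W) where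
  toFun g := QuotientGroup.congr (C.subgroupOf W) (C.subgroupOf W) (D.actW g) (by
    have key : ∀ c : W, (c : G) ∈ C → D.actW g c = c := by
      intro c hc
      apply Subtype.ext
      rw [coe_actW, D.cen g g.2 c hc, mul_inv_cancel_right]
    ext w
    constructor
    · rintro ⟨c, hc, rfl⟩
      have h1 : D.actW g c = c := key c (mem_subgroupOf.1 hc)
      change D.actW g c ∈ _
      rw [h1]
      exact hc
    · intro hw
      exact ⟨w, hw, key w (mem_subgroupOf.1 hw)⟩)
  map_one' := by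
    ext x
    obtain ⟨w, rfl⟩ := QuotientGroup.mk_surjective x
    change (QuotientGroup.mk (D.actW 1 w) : W ⧸ C.subgroupOf W) = QuotientGroup.mk w
    rw [map_one]
    rfl
  map_mul' := fun g h => by
    ext x
    obtain ⟨w, rfl⟩ := QuotientGroup.mk_surjective x
    change (QuotientGroup.mk (D.actW (g * h) w) : W ⧸ C.subgroupOf W) = QuotientGroup.mk (D.actW g (D.actW h w))
    rw [map_mul]
    rfl

theorem rho_mk (D : QDat T R W C) (g : R) (w : W) :
    D.rho g (QuotientGroup.mk w : W ⧸ C.subgroupOf W) = QuotientGroup.mk (D.actW g w) := rfl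

theorem rho_fix (D : QDat T R W C) (g : R) (w : W) :
    D.rho g (QuotientGroup.mk w : W ⧸ C.subgroupOf W) = QuotientGroup.mk w ↔ cq (g : G) w ∈ C := by
  rw [rho_mk, QuotientGroup.eq_iff_div_mem, mem_subgroupOf, div_eq_mul_inv, Subgroup.coe_mul, Subgroup.coe_inv,
    coe_actW, cq]

theorem ab' [Finite G] (D : QDat T R W C) : Hol.Ab T R D.rho where
  syl := D.syl
  mp := D.par
  comm := by
    intro x y
    obtain ⟨v, rfl⟩ := QuotientGroup.mk_surjective x
    obtain ⟨w, rfl⟩ := QuotientGroup.mk_surjective y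
    have e : v * w = w * v := Subtype.ext (D.ab _ v.2 _ w.2)
    rw [← QuotientGroup.mk_mul, e]
    rfl
  sq := by
    intro x
    obtain ⟨v, rfl⟩ := QuotientGroup.mk_surjective x
    have e : v * v = 1 := Subtype.ext (D.sq _ v.2)
    rw [← QuotientGroup.mk_mul, e]
    rfl
  gen := by
    intro U hU
    have h1 : W ≤ (U.comap (QuotientGroup.mk' (C.subgroupOf W))).map W.subtype := by
      apply D.gen
      · intro c hc
        refine ⟨⟨c, D.CW hc⟩, ?_, rfl⟩
        have e : QuotientGroup.mk' (C.subgroupOf W) ⟨c, D.CW hc⟩ = 1 :=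
          (QuotientGroup.eq_one_iff _).2 (mem_subgroupOf.2 hc)
        change QuotientGroup.mk' (C.subgroupOf W) ⟨c, D.CW hc⟩ ∈ U
        rw [e]
        exact one_mem _
      · intro v hv ht g hg
        refine ⟨D.actW ⟨g, hg⟩ ⟨v, hv⟩, ?_, rfl⟩
        exact hU (QuotientGroup.mk ⟨v, hv⟩) (fun t htT => (D.rho_fix t ⟨v, hv⟩).2 (ht t htT)) ⟨g, hg⟩
    rw [eq_top_iff]
    intro x _
    obtain ⟨v, rfl⟩ := QuotientGroup.mk_surjective x
    obtain ⟨w, hw, e⟩ := h1 v.2
    have e' : w = v := Subtype.ext e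
    rw [← e']
    exact hw
  nfix := by
    obtain ⟨v, hv, ht, g, hg, hgv⟩ := D.mv
    refine ⟨QuotientGroup.mk ⟨v, hv⟩, fun t htT => (D.rho_fix t ⟨v, hv⟩).2 (ht t htT), ⟨g, hg⟩, fun h0 => hgv ?_⟩
    exact (D.rho_fix ⟨g, hg⟩ ⟨v, hv⟩).1 h0

end QDat

/-- **A1** -/
theorem exists_model [Finite G] (D : QDat T R W C) :
    ∃ (G' : Type u) (_ : Group G') (_ : Finite G') (T' H' : Subgroup G') (φ : W →* G') (π : R →* G'),
      Model T R W C T' H' φ π := by
  have hn : (C.subgroupOf W).Normal := D.normC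
  have hA := D.ab'
  have hz := hA.zl_eq
  refine ⟨Hol.Gm D.rho.range, inferInstance, inferInstance, Hol.Ab.TT T D.rho, ⊤,
    (Hol.inV D.rho.range).comp (QuotientGroup.mk' (C.subgroupOf W)),
    (SemidirectProduct.inr : D.rho.range →* Hol.Gm D.rho.range).comp D.rho.rangeRestrict, ?_⟩
  refine
    { syl := hA.syl'
      par := hA.minPar'
      char2 := hA.char2'
      range := ?_
      ker := ?_
      act := ?_
      piH := fun g => mem_top _
      piT := ?_
      Hpi := ?_
      Tpi := ?_ }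
  · rw [hz, MonoidHom.range_comp, QuotientGroup.range_mk', ← MonoidHom.range_eq_map]
  · intro w
    rw [MonoidHom.comp_apply, (injective_iff_map_eq_one' _).1 (Hol.inV_inj _), QuotientGroup.mk'_apply,
      QuotientGroup.eq_one_iff, mem_subgroupOf]
  · intro g w hw
    exact Hol.conj_inV hA.comm
      (SemidirectProduct.inr (D.rho.rangeRestrict g)) (QuotientGroup.mk w : W ⧸ C.subgroupOf W)
  · intro g hg
    exact Hol.Ab.mem_TT.2 ⟨g, hg, rfl⟩
  · intro h _
    obtain ⟨g, hg⟩ := h.right.2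
    refine ⟨g, Hol.inV _ h.left, by rw [hz]; exact ⟨_, rfl⟩, ?_⟩
    have e : D.rho.rangeRestrict g = h.right := Subtype.ext hg
    rw [MonoidHom.comp_apply, e]
    exact (SemidirectProduct.inl_left_mul_inr_right h).symm
  · intro h hh
    obtain ⟨g, hgT, hg⟩ := Hol.Ab.mem_TT.1 hh
    refine ⟨g, hgT, Hol.inV _ h.left, by rw [hz]; exact ⟨_, rfl⟩, ?_⟩
    have e : D.rho.rangeRestrict g = h.right := Subtype.ext hg
    rw [MonoidHom.comp_apply, e]
    exact (SemidirectProduct.inl_left_mul_inr_right h).symm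

end Cfsg.Agent.Omega.NSix.Cen
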