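import Cfsg.Agent.Omega.NSix.Cen.QDef
import Cfsg.Agent.Omega.NSix.HTwo.Vec

/-!
# N6, THEOREM V (bb #19783): facts over a model of the action of `R` on `W / C`

* `im π A` : the image of `A ≤ R`;
* `Model.cqq`, `Model.tr_iff`, `Model.cen_iff` : commutators, trivial action, fixed points;
* `Model.rel_tr`, `Model.rel_cen` : indices;
* `Model.offM` : an exact offender on `W` is an offender on `zl T' H'`;
* `nb_of`, `sb_of` : the blocks `Nb`, `Sb` of a minimal parabolic of characteristic 2;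
* `Model.lift`, `Model.oddLift` : lifts to `R`.
-/

set_option autoImplicit false

namespace Cfsg.Agent.Omega.NSix.Cen

open Subgroup Cfsg Cfsg.Agent.ZN.ChoiceBase Cfsg.Agent.ZN.ChoiceSit
open Cfsg.Agent.ZN (zc zl o2)
open Cfsg.Agent.MinSimple.MinParabolic (IsMinPar)
open Cfsg.Agent.MinSimple.VModule (le_normalizer_zl)
open Cfsg.Agent.Omega.FFThm
open Cfsg.Agent.Omega.FrameFF (cv)
open Cfsg.Agent.Omega.HOne (cv_le le_normalizer_cv conj_mem_zl conj_mem_cv)
open Cfsg.Agent.Omega.NO3S.ThmB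
open Cfsg.Agent.Lib.SL2Mat
open Cfsg.Agent.Omega.NatPair (ap)

universe u

variable {G : Type u} [Group G] {T R W C : Subgroup G} {G' : Type u} [Group G'] {T' H' : Subgroup G'} {φ : W →* G'}
  {π : R →* G'}

/-- the image of `A` -/
def im (π : R →* G') (A : Subgroup G) : Subgroup G' := (A.subgroupOf R).map π

theorem mem_im {A : Subgroup G} {y : G'} : y ∈ im π A ↔ ∃ a : R, (a : G) ∈ A ∧ π a = y := by
  rw [im, mem_map]
  simp only [mem_subgroupOf]

theorem im_mono {A B : Subgroup G} (h : A ≤ B) : im π A ≤ im π B := map_mono (comap_mono h)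

theorem cq_one_iff {a w : G} : cq a w = 1 ↔ a * w = w * a := by
  rw [cq, mul_inv_eq_one, mul_inv_eq_iff_eq_mul]

theorem trQ_of_cen {a : G} (ha : a ∈ centralizer (W : Set G)) : TrQ W C a := fun w hw => by
  rw [cq_one_iff.2 (mem_centralizer_iff.1 ha w hw).symm]
  exact one_mem _

theorem QDat.conj_mem (D : QDat T R W C) {g w : G} (hg : g ∈ R) (hw : w ∈ W) : g * w * g⁻¹ ∈ W :=
  (mem_normalizer_iff.1 (D.nW hg) w).1 hw

theorem QDat.cq_mem (D : QDat T R W C) {g w : G} (hg : g ∈ R) (hw : w ∈ W) : cq g w ∈ W :=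
  mul_mem (D.conj_mem hg hw) (inv_mem hw)

theorem QDat.TR (D : QDat T R W C) : T ≤ R := D.syl.1

namespace Model

variable (M : Model T R W C T' H' φ π) (D : QDat T R W C)

include M

/-- `φ` is a map to `zl T' H'` -/
theorem mem (w : W) : φ w ∈ zl T' H' := by
  rw [← M.range]
  exact ⟨w, rfl⟩

theorem exists_eq {v : G'} (hv : v ∈ zl T' H') : ∃ w : W, φ w = v := by
  rw [← M.range] at hv
  exact hv

theorem actc (g : R) (w : W) (hw : (g : G) * w * (g : G)⁻¹ ∈ W) :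
    π g * φ w * (π g)⁻¹ = φ ⟨(g : G) * w * (g : G)⁻¹, hw⟩ := M.act g w hw

/-- commutators -/
theorem cqq (g : R) (w : W) (hw : cq (g : G) w ∈ W) : π g * φ w * (π g)⁻¹ * (φ w)⁻¹ = φ ⟨cq (g : G) w, hw⟩ := by
  have h1 : (g : G) * w * (g : G)⁻¹ ∈ W := by
    have h2 := mul_mem hw w.2
    rwa [cq, inv_mul_cancel_right] at h2
  rw [M.act g w h1, ← map_inv, ← map_mul]
  rfl

include D

theorem cq_iff (g : R) (w : W) : cq (g : G) w ∈ C ↔ π g * φ w = φ w * π g := by
  have hw := D.cq_mem g.2 w.2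
  rw [← M.ker ⟨cq (g : G) w, hw⟩, ← M.cqq g w hw, mul_inv_eq_one, mul_inv_eq_iff_eq_mul]

/-- trivial action -/
theorem tr_iff (g : R) : TrQ W C (g : G) ↔ π g ∈ centralizer (zl T' H' : Set G') := by
  rw [mem_centralizer_iff]
  constructor
  · intro h v hv
    obtain ⟨w, rfl⟩ := M.exists_eq hv
    exact ((M.cq_iff D g w).1 (h w w.2)).symm
  · intro h w hw
    exact (M.cq_iff D g ⟨w, hw⟩).2 (h _ (M.mem _)).symm

/-- fixed points -/
theorem cen_iff {A : Subgroup G} (hA : A ≤ R) (w : W) :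
    (∀ a ∈ A, cq a w ∈ C) ↔ φ w ∈ centralizer (im π A : Set G') := by
  rw [mem_centralizer_iff]
  constructor
  · intro h y hy
    obtain ⟨a, ha, rfl⟩ := mem_im.1 hy
    exact (M.cq_iff D a w).1 (h a ha)
  · intro h a ha
    exact (M.cq_iff D ⟨a, hA ha⟩ w).2 (h _ (mem_im.2 ⟨⟨a, hA ha⟩, ha, rfl⟩))

theorem rel_tr {A KA : Subgroup G} (hA : A ≤ R) (hK : ∀ a, a ∈ KA ↔ a ∈ A ∧ TrQ W C a) :
    KA.relIndex A = (centralizer (zl T' H' : Set G')).relIndex (im π A) := by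
  have e : KA.subgroupOf R = comap π (centralizer (zl T' H' : Set G')) ⊓ A.subgroupOf R := by
    ext a
    rw [mem_subgroupOf, hK, mem_inf, mem_comap, mem_subgroupOf, ← M.tr_iff D a, and_comm]
  rw [im, ← relIndex_comap, ← relIndex_subgroupOf hA, e, inf_relIndex_right]

theorem rel_cen {A CW : Subgroup G} (hA : A ≤ R) (hC : ∀ w, w ∈ CW ↔ w ∈ W ∧ ∀ a ∈ A, cq a w ∈ C) :
    CW.relIndex W = (centralizer (im π A : Set G')).relIndex (zl T' H') := by
  rw [← M.range, MonoidHom.range_eq_map, ← relIndex_comap, relIndex_top_right, relIndex]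
  congr 1
  ext w
  rw [mem_subgroupOf, hC, mem_comap, ← M.cen_iff D hA w]
  exact ⟨fun h => h.2, fun h => ⟨w.2, h⟩⟩

omit D in
theorem im_le {A : Subgroup G} (hA : A ≤ T) : im π A ≤ T' := by
  intro y hy
  obtain ⟨a, ha, rfl⟩ := mem_im.1 hy
  exact M.piT a (hA ha)

omit D in
theorem im_le' (A : Subgroup G) : im π A ≤ H' := by
  intro y hy
  obtain ⟨a, -, rfl⟩ := mem_im.1 hy
  exact M.piH a

theorem im_cen {A : Subgroup G} (hA : A ≤ centralizer (W : Set G)) : im π A ≤ centralizer (zl T' H' : Set G') := by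
  intro y hy
  obtain ⟨a, ha, rfl⟩ := mem_im.1 hy
  exact (M.tr_iff D a).1 (trQ_of_cen (hA ha))

theorem elemM {A : Subgroup G} (h1 : ∀ a ∈ A, TrQ W C (a * a))
    (h2 : ∀ a ∈ A, ∀ b ∈ A, TrQ W C (a * b * a⁻¹ * b⁻¹)) : ElemM (zl T' H') (im π A) := by
  refine ⟨fun y hy => ?_, fun y hy z hz => ?_⟩
  · obtain ⟨a, ha, rfl⟩ := mem_im.1 hy
    rw [pow_two, ← map_mul]
    exact (M.tr_iff D (a * a)).1 (h1 a ha)
  · obtain ⟨a, ha, rfl⟩ := mem_im.1 hy
    obtain ⟨b, hb, rfl⟩ := mem_im.1 hz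
    rw [← map_mul, ← map_inv, ← map_mul, ← map_inv, ← map_mul]
    exact (M.tr_iff D (a * b * a⁻¹ * b⁻¹)).1 (h2 a ha b hb)

/-- an exact offender on `W` is an offender on `zl T' H'` -/
theorem offM [Finite G] [Finite G'] {A : Subgroup G} (hA : A ≤ R) (hex : Ex W C A) (ho : OffM W A) :
    OffM (zl T' H') (im π A) := by
  refine ⟨M.elemM D (fun a ha => ?_) (fun a ha b hb => trQ_of_cen (ho.comm a ha b hb)), fun hc => ho.ne ?_, ?_⟩
  · have h1 := ho.sq a ha
    rw [pow_two] at h1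
    exact trQ_of_cen h1
  · intro a ha
    exact hex.1 a ha ((M.tr_iff D ⟨a, hA ha⟩).2 (hc (mem_im.2 ⟨⟨a, hA ha⟩, ha, rfl⟩)))
  · have h1 := relIndex_le_iff.1 ho.le
    rw [relIndex_le_iff]
    have h2 := M.rel_tr D (A := A) (KA := A ⊓ centralizer (W : Set G)) hA fun a => by
      rw [mem_inf]
      exact ⟨fun h => ⟨h.1, trQ_of_cen h.2⟩, fun h => ⟨h.1, hex.1 a h.1 h.2⟩⟩
    have h3 := M.rel_cen D (A := A) (CW := W ⊓ centralizer (A : Set G)) hA fun w => by
      rw [mem_inf, mem_centralizer_iff]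
      exact ⟨fun h => ⟨h.1, fun a ha => by rw [cq_one_iff.2 (h.2 a ha)]; exact one_mem _⟩,
        fun h => ⟨h.1, fun a ha => hex.2 w h.1 h.2 a ha⟩⟩
    rw [inf_relIndex_left] at h2 h3
    rw [← h2, ← h3]
    exact h1

end Model

/-! ### The blocks -/

section blocks

variable [Finite G']

theorem nb_of {F : Type} [Field F] [CharP F 2] {k : ℕ} (hT : Syl T' H')
    (hc : H' ⊓ centralizer (o2 H' : Set G') ≤ o2 H') (N : NatKM F T' H' (zl T' H') (cv T' H') k) : Nb N := by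
  refine ⟨hT.1, OM.BlkGen.zl_elem hT hc, le_normalizer_zl T' H', cv_le T' H', le_normalizer_cv T' H', ?_⟩
  intro g hg h1 h2 v hv
  refine HTwo.Vec.triv hT hc (cv_le T' H') (le_normalizer_cv T' H') hg (fun w hw => ?_) h2 hv
  have hgw : g * w * g⁻¹ ∈ zl T' H' := conj_mem_zl hg hw
  refine (N.ker _ (mul_mem hgw (inv_mem hw))).1 ?_
  rw [N.mul _ hgw _ (inv_mem hw), h1 w hw, ← N.mul w hw _ (inv_mem hw), mul_inv_cancel]
  exact Nb.e_one

theorem sb_of {k m : ℕ} (hm : 2 ≤ m) (hT : Syl T' H')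
    (hc : H' ⊓ centralizer (o2 H' : Set G') ≤ o2 H') (N : SymKM T' H' (zl T' H') (cv T' H') k m) : Sb N := by
  refine ⟨hm, hT.2.1, hT.1, OM.BlkGen.zl_elem hT hc, le_normalizer_zl T' H', cv_le T' H', le_normalizer_cv T' H', ?_⟩
  intro g hg h1 h2 v hv
  refine HTwo.Vec.triv hT hc (cv_le T' H') (le_normalizer_cv T' H') hg (fun w hw => ?_) h2 hv
  have hgw : g * w * g⁻¹ ∈ zl T' H' := conj_mem_zl hg hw
  refine (N.ker _ (mul_mem hgw (inv_mem hw))).1 ?_
  rw [N.mul _ hgw _ (inv_mem hw), h1 w hw, ← N.mul w hw _ (inv_mem hw), mul_inv_cancel]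
  exact Sb.e_one

end blocks

/-! ### Lifts -/

section lift

variable {F : Type} [Field F] {k : ℕ}

theorem acts_pow {S P' V D' : Subgroup G'} {M : NatKM F S P' V D' k} (h : Nb M) {g : G'}
    {A : Fin k → Matrix.SpecialLinearGroup (Fin 2) F} (hg : g ∈ P') (hA : ActsSL M.e V D' g A) (n : ℕ) :
    ActsSL M.e V D' (g ^ n) (A ^ n) := by
  induction n with
  | zero => rw [pow_zero, pow_zero]; exact Nb.acts_one
  | succ n ih => rw [pow_succ, pow_succ]; exact h.acts_mul hg ih hA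

variable [Finite G'] [CharP F 2]

/-- `h ∈ H'` acts as an element `π g` -/
theorem Model.exists_pi (M : Model T R W C T' H' φ π) (N : NatKM F T' H' (zl T' H') (cv T' H') k) {h : G'}
    (hh : h ∈ H') {A : Fin k → Matrix.SpecialLinearGroup (Fin 2) F} (hA : ActsSL N.e (zl T' H') (cv T' H') h A) :
    ∃ g : R, ActsSL N.e (zl T' H') (cv T' H') (π g) A ∧ ∃ v ∈ zl T' H', h = v * π g := by
  have hN := nb_of M.syl M.char2 N
  obtain ⟨g, v, hv, e⟩ := M.Hpi h hh
  refine ⟨g, ⟨fun w hw i => ?_, fun d hd => ?_⟩, v, hv, e⟩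
  · rw [← hA.1 w hw i, e]
    have h1 : π g * w * (π g)⁻¹ ∈ zl T' H' := conj_mem_zl (M.piH g) hw
    have h2 : v * (π g * w * (π g)⁻¹) = (π g * w * (π g)⁻¹) * v := hN.cm hv h1
    have h3 : v * π g * w * (v * π g)⁻¹ = π g * w * (π g)⁻¹ := by
      calc v * π g * w * (v * π g)⁻¹ = v * (π g * w * (π g)⁻¹) * v⁻¹ := by group
        _ = (π g * w * (π g)⁻¹) * v * v⁻¹ := by rw [h2]
        _ = _ := by group
    rw [h3]
  · have h1 := hA.2 d hd
    rw [e] at h1
    have h2 : v⁻¹ * d = d * v⁻¹ := hN.cm (inv_mem hv) (cv_le T' H' hd)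
    calc π g * d = v⁻¹ * (v * π g * d) := by group
      _ = v⁻¹ * (d * (v * π g)) := by rw [h1]
      _ = (v⁻¹ * d) * (v * π g) := by group
      _ = d * v⁻¹ * (v * π g) := by rw [h2]
      _ = d * π g := by group

theorem Model.lift (M : Model T R W C T' H' φ π) (N : NatKM F T' H' (zl T' H') (cv T' H') k)
    (A : Fin k → Matrix.SpecialLinearGroup (Fin 2) F) :
    ∃ g : R, ActsSL N.e (zl T' H') (cv T' H') (π g) A := by
  obtain ⟨h, hh, hA⟩ := N.lift A
  obtain ⟨g, hg, -⟩ := M.exists_pi N hh hA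
  exact ⟨g, hg⟩

omit [Finite G'] [CharP F 2] in
/-- the power of an element which is an element of odd order congruent to it -/
theorem exists_odd_pow [Finite G] (g : G) {n : ℕ} (hn : Odd n) : ∃ e : ℕ, Odd (orderOf (g ^ e)) ∧ e ≡ 1 [MOD n] := by
  have hpos : 0 < orderOf g := orderOf_pos g
  obtain ⟨a, o, ho, e⟩ := Nat.exists_eq_two_pow_mul_odd hpos.ne'
  have hcop : Nat.Coprime n (2 ^ a) := Nat.Coprime.pow_right a (Nat.coprime_two_right.2 hn)
  obtain ⟨e', h1, h2⟩ := Nat.chineseRemainder hcop 1 0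
  refine ⟨e', ?_, h1⟩
  have h3 : 2 ^ a ∣ e' := (Nat.modEq_zero_iff_dvd).1 h2
  have h4 : orderOf (g ^ e') ∣ o := by
    refine orderOf_dvd_of_pow_eq_one ?_
    rw [← pow_mul]
    refine orderOf_dvd_iff_pow_eq_one.1 ?_
    rw [e]
    exact Nat.mul_dvd_mul_right h3 o
  exact Odd.of_dvd_nat ho h4

/-- an element of odd order of `SL₂(F)^k` is induced by an element of odd order of `R` -/
theorem Model.oddLift [Finite G] (M : Model T R W C T' H' φ π) (N : NatKM F T' H' (zl T' H') (cv T' H') k)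
    {A : Fin k → Matrix.SpecialLinearGroup (Fin 2) F} {n : ℕ} (hn : Odd n) (hA : A ^ n = 1) :
    ∃ g : R, Odd (orderOf (g : G)) ∧ ActsSL N.e (zl T' H') (cv T' H') (π g) A := by
  obtain ⟨g, hg⟩ := M.lift N A
  obtain ⟨e, h1, h2⟩ := exists_odd_pow (g : G) hn
  refine ⟨g ^ e, ?_, ?_⟩
  · rw [Subgroup.coe_pow]
    exact h1
  · have hN := nb_of M.syl M.char2 N
    have h3 := acts_pow hN (M.piH g) hg e
    have h4 : A ^ e = A := by
      rw [pow_eq_pow_mod e hA, show e % n = 1 % n from h2, ← pow_eq_pow_mod 1 hA, pow_one]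
    rwa [h4, ← map_pow] at h3

/-- an element of odd order which centralises `x` modulo `C` centralises `x` -/
theorem QDat.odd_comm (D : QDat T R W C) {h x : G} (hh : h ∈ R) (ho : Odd (orderOf h)) (hx : cq h x ∈ C) :
    h * x = x * h := by
  have h1 : ∀ n : ℕ, h ^ n * x * (h ^ n)⁻¹ = (cq h x) ^ n * x := by
    intro n
    induction n with
    | zero => simp
    | succ n ih =>
      have h2 : Commute (h ^ n) (cq h x) := (show Commute h (cq h x) from D.cen h hh _ hx).pow_left n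
      calc h ^ (n + 1) * x * (h ^ (n + 1))⁻¹ = h ^ n * (cq h x * x) * (h ^ n)⁻¹ := by rw [cq, pow_succ]; group
        _ = (h ^ n * cq h x) * x * (h ^ n)⁻¹ := by group
        _ = (cq h x * h ^ n) * x * (h ^ n)⁻¹ := by rw [h2.eq]
        _ = cq h x * (h ^ n * x * (h ^ n)⁻¹) := by group
        _ = (cq h x) ^ (n + 1) * x := by rw [ih, pow_succ']; group
  have h2 := h1 (orderOf h)
  rw [pow_orderOf_eq_one, one_mul, inv_one, mul_one] at h2
  have h3 : (cq h x) ^ orderOf h = 1 := by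
    have := congrArg (· * x⁻¹) h2
    simpa using this.symm
  obtain ⟨m, hm⟩ := ho
  have h4 : cq h x * cq h x = 1 := D.sq _ (D.CW hx)
  rw [hm, pow_succ, pow_mul, pow_two, h4, one_pow, one_mul] at h3
  exact cq_one_iff.1 h3

end lift

end Cfsg.Agent.Omega.NSix.Cen
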