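import Cfsg.Agent.Omega.NSix.Cen.QDef
import Cfsg.Agent.MinSimple.MinParabolic
import Cfsg.Agent.Omega.TTn.DiCoreAbs

/-!
# Elementary facts on `QDat`

* `cq_mul_left`, `cq_mul_right` : the calculus of `cq` modulo `C`;
* `kQ` : the kernel of `R` on `W / C`; `cQ A` : the preimage of `C_{W/C}(A)`;
* `inf_kQ` : `T ∩ kQ ≤ O₂(R)`;
* `odd_cen` : an element of odd order which centralises `w` modulo `C` centralises `w`.
-/

set_option autoImplicit false
set_option linter.unusedSectionVars false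

namespace Cfsg.Agent.Omega.NSix.Cen

open Subgroup Cfsg Cfsg.Agent.ZN.ChoiceSit
open Cfsg.Agent.ZN (zc zl o2)
open Cfsg.Agent.MinSimple.MinParabolic (IsMinPar)
open Cfsg.Agent.Omega.FFThm (OffM)

universe u

variable {G : Type u} [Group G] {T R W C : Subgroup G}

namespace QDat

variable (D : QDat T R W C)
include D

theorem memW {g w : G} (hg : g ∈ R) (hw : w ∈ W) : g * w * g⁻¹ ∈ W := (mem_normalizer_iff.1 (D.nW hg) w).1 hw

theorem cqW {g w : G} (hg : g ∈ R) (hw : w ∈ W) : cq g w ∈ W := mul_mem (D.memW hg hw) (inv_mem hw)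

theorem cW {c w : G} (hc : c ∈ C) (hw : w ∈ W) : c * w = w * c := D.ab c (D.CW hc) w hw

/-- `cq a (v w) = cq a v · cq a w` -/
theorem cq_mul {a v w : G} (ha : a ∈ R) (hv : v ∈ W) (hw : w ∈ W) : cq a (v * w) = cq a v * cq a w := by
  have h1 := D.ab _ (inv_mem hv) _ (D.cqW ha hw)
  unfold cq at h1 ⊢
  calc a * (v * w) * a⁻¹ * (v * w)⁻¹ = a * v * a⁻¹ * ((a * w * a⁻¹ * w⁻¹) * v⁻¹) := by group
    _ = a * v * a⁻¹ * (v⁻¹ * (a * w * a⁻¹ * w⁻¹)) := by rw [h1]
    _ = a * v * a⁻¹ * v⁻¹ * (a * w * a⁻¹ * w⁻¹) := by group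

theorem cq_inv {a w : G} (ha : a ∈ R) (hw : w ∈ W) : cq a w⁻¹ = (cq a w)⁻¹ := by
  have h1 := D.cq_mul ha hw (inv_mem hw)
  rw [mul_inv_cancel] at h1
  have h2 : cq a 1 = 1 := by unfold cq; group
  rw [h2] at h1
  exact (inv_eq_of_mul_eq_one_right h1.symm).symm

omit D in
/-- `cq (a b) w = a (cq b w) a⁻¹ · cq a w` -/
theorem cq_mul' (a b w : G) : cq (a * b) w = a * cq b w * a⁻¹ * cq a w := by unfold cq; group

theorem conj_C {a c : G} (ha : a ∈ R) (hc : c ∈ C) : a * c * a⁻¹ = c := by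
  rw [D.cen a ha c hc, mul_inv_cancel_right]

/-- the kernel on `W / C` -/
def kQ : Subgroup G where
  carrier := {a | a ∈ R ∧ TrQ W C a}
  one_mem' := ⟨one_mem _, fun w _ => by
    have : cq (1 : G) w = 1 := by unfold cq; group
    rw [this]; exact one_mem _⟩
  mul_mem' := by
    rintro a b ⟨ha, ha'⟩ ⟨hb, hb'⟩
    refine ⟨mul_mem ha hb, fun w hw => ?_⟩
    rw [cq_mul', D.conj_C ha (hb' w hw)]
    exact mul_mem (hb' w hw) (ha' w hw)
  inv_mem' := by
    rintro a ⟨ha, ha'⟩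
    refine ⟨inv_mem ha, fun w hw => ?_⟩
    have h1 := ha' _ (D.memW (inv_mem ha) hw)
    rw [inv_inv] at h1
    have h2 : cq a (a⁻¹ * w * a) = (cq a⁻¹ w)⁻¹ := by unfold cq; group
    rw [h2] at h1
    exact (inv_mem_iff).1 h1

theorem mem_kQ {a : G} : a ∈ D.kQ ↔ a ∈ R ∧ TrQ W C a := Iff.rfl

/-- the preimage of `C_{W/C}(A)` -/
def cQ (A : Subgroup G) (hA : A ≤ R) : Subgroup G where
  carrier := {w | w ∈ W ∧ ∀ a ∈ A, cq a w ∈ C}
  one_mem' := ⟨one_mem _, fun a _ => by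
    have : cq a (1 : G) = 1 := by unfold cq; group
    rw [this]; exact one_mem _⟩
  mul_mem' := by
    rintro v w ⟨hv, hv'⟩ ⟨hw, hw'⟩
    refine ⟨mul_mem hv hw, fun a ha => ?_⟩
    rw [D.cq_mul (hA ha) hv hw]
    exact mul_mem (hv' a ha) (hw' a ha)
  inv_mem' := by
    rintro v ⟨hv, hv'⟩
    refine ⟨inv_mem hv, fun a ha => ?_⟩
    rw [D.cq_inv (hA ha) hv]
    exact inv_mem (hv' a ha)

theorem mem_cQ {A : Subgroup G} {hA : A ≤ R} {w : G} : w ∈ D.cQ A hA ↔ w ∈ W ∧ ∀ a ∈ A, cq a w ∈ C := Iff.rfl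

theorem kQ_norm : R ≤ normalizer (D.kQ : Set G) := by
  intro g hg
  have key : ∀ g ∈ R, ∀ a ∈ D.kQ, g * a * g⁻¹ ∈ D.kQ := by
    rintro g hg a ⟨ha, ha'⟩
    refine ⟨mul_mem (mul_mem hg ha) (inv_mem hg), fun w hw => ?_⟩
    have h1 := ha' _ (D.memW (inv_mem hg) hw)
    rw [inv_inv] at h1
    have h2 : cq (g * a * g⁻¹) w = g * cq a (g⁻¹ * w * g) * g⁻¹ := by unfold cq; group
    rw [h2, D.conj_C hg h1]
    exact h1
  rw [mem_normalizer_iff]
  refine fun x => ⟨key g hg x, fun hx => ?_⟩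
  have h1 := key g⁻¹ (inv_mem hg) _ hx
  have e : g⁻¹ * (g * x * g⁻¹) * g⁻¹⁻¹ = x := by group
  rwa [e] at h1

/-- **`C_T(W / C) ≤ O₂(R)`** -/
theorem inf_kQ [Finite G] : T ⊓ D.kQ ≤ o2 R := by
  have hfact : Fact (Nat.Prime 2) := ⟨Nat.prime_two⟩
  rcases D.par.sup_eq_or_inf_le (p := 2) D.syl.2.1 (syl_not_dvd D.syl) (N := D.kQ) (fun a ha => ha.1) D.kQ_norm
    with h1 | h1
  · exfalso
    obtain ⟨v, hv, hvT, g, hg, hgv⟩ := D.mv
    apply hgv
    -- the elements of `R` fixing `v` modulo `C`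
    let F : Subgroup G :=
      { carrier := {a | a ∈ R ∧ cq a v ∈ C}
        one_mem' := ⟨one_mem _, by
          have : cq (1 : G) v = 1 := by unfold cq; group
          rw [this]; exact one_mem _⟩
        mul_mem' := by
          rintro a b ⟨ha, ha'⟩ ⟨hb, hb'⟩
          refine ⟨mul_mem ha hb, ?_⟩
          rw [cq_mul', D.conj_C ha hb']
          exact mul_mem hb' ha'
        inv_mem' := by
          rintro a ⟨ha, ha'⟩
          refine ⟨inv_mem ha, ?_⟩
          have h2 : cq a⁻¹ v = a⁻¹ * (cq a v)⁻¹ * a := by unfold cq; group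
          have h3 := D.conj_C (inv_mem ha) (inv_mem ha')
          rw [inv_inv] at h3
          rw [h2, h3]
          exact inv_mem ha' }
    have h2 : D.kQ ⊔ T ≤ F := sup_le (fun a ha => ⟨ha.1, ha.2 v hv⟩) fun t ht => ⟨D.par.le ht, hvT t ht⟩
    rw [h1] at h2
    exact (h2 hg).2
  · exact h1

/-- `C` has exponent 2 -/
theorem sqC {c : G} (hc : c ∈ C) : c * c = 1 := D.sq c (D.CW hc)

/-- coprime action: an odd element centralising `w` modulo `C` centralises `w` -/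
theorem odd_cen {g w : G} (hg : g ∈ R) (ho : Odd (orderOf g)) (_ : w ∈ W) (h : cq g w ∈ C) : g * w = w * g := by
  have key : ∀ n : ℕ, g ^ n * w * (g ^ n)⁻¹ = cq g w ^ n * w := by
    intro n
    induction n with
    | zero => simp
    | succ n ih =>
      have h1 : g ^ (n + 1) * w * (g ^ (n + 1))⁻¹ = g * (g ^ n * w * (g ^ n)⁻¹) * g⁻¹ := by
        rw [pow_succ']; group
      rw [h1, ih]
      have h2 : g * (cq g w ^ n * w) * g⁻¹ = (g * cq g w ^ n * g⁻¹) * (g * w * g⁻¹) := by group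
      have h3 := D.conj_C hg (pow_mem h n)
      have h4 : g * w * g⁻¹ = cq g w * w := by unfold cq; group
      rw [h2, h3, h4, pow_succ, mul_assoc]
  obtain ⟨k, hk⟩ := ho
  have h1 := key (orderOf g)
  rw [pow_orderOf_eq_one, one_mul, inv_one, mul_one] at h1
  have h2 : cq g w ^ orderOf g = cq g w := by
    rw [hk, pow_succ, pow_mul, pow_two, D.sqC h, one_pow, one_mul]
  rw [h2] at h1
  have h3 : cq g w = 1 := right_eq_mul.1 h1
  unfold cq at h3
  exact mul_inv_eq_iff_eq_mul.1 (mul_inv_eq_one.1 h3)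

end QDat

end Cfsg.Agent.Omega.NSix.Cen
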