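import Cfsg.Agent.Omega.NSix.Cen.QTwo

/-!
# N6, THEOREM V (bb #19783): the FF theorem for a minimal parabolic acting on a quotient `W / C`

Over `M : Model T R W C T' H' φ π`:

* `noOverQ` : no over-offenders on `W / C`;
* `line_cen` : a root element centralises the full preimage of its line;
* `natE`, `symE` : the vector `ν` and the subgroup `E` for the two conclusions of the FF theorem;
* `Model.conclQ_of_vec` : back to `W / C`;
* `conclQ_of` : `ConclQ`, given the case of one natural module with `q ≥ 4`.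
-/

set_option autoImplicit false

namespace Cfsg.Agent.Omega.NSix.Cen

open Subgroup Cfsg Cfsg.Agent.ZN.ChoiceBase Cfsg.Agent.ZN.ChoiceSit
open Cfsg.Agent.ZN (zc zl o2)
open Cfsg.Agent.MinSimple.MinParabolic (IsMinPar)
open Cfsg.Agent.MinSimple.VModule (le_normalizer_zl)
open Cfsg.Agent.Omega.FFThm
open Cfsg.Agent.Omega.FrameFF (cv)
open Cfsg.Agent.Omega.HOne (cv_le le_normalizer_cv conj_mem_zl conj_mem_cv)
open Cfsg.Agent.Omega.NO3S.ThmB
open Cfsg.Agent.Lib.SL2Mat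
open Cfsg.Agent.Omega.NatPair (ap)
open Cfsg.Agent.Omega.NSix.HTwo.Vec (cms)

universe u

variable {G : Type u} [Group G] {T R W C : Subgroup G} {G' : Type u} [Group G'] {T' H' : Subgroup G'} {φ : W →* G'}
  {π : R →* G'}

/-- **no over-offenders on `W / C`** -/
theorem noOverQ [Finite G'] (hFF : StmtM.{u}) (D : QDat T R W C) (M : Model T R W C T' H' φ π) : NoOverQ R W C := by
  intro A hAR h1 h2 KA CW hK hC
  rw [M.rel_tr D hAR hK, M.rel_cen D hAR hC]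
  exact relIndex_le_iff.1
    (HTwo.Vec.noOverM hFF M.syl M.par M.char2 (im π A) (M.im_le' A) (M.elemM D h1 h2))

/-! ### Natural modules -/

section nat

variable {F : Type} [Field F] [CharP F 2] {k : ℕ} {V D' : Subgroup G'}

/-- **a root element centralises the full preimage of its line** -/
theorem line_cen {N : NatKM F T' H' V D' k} (h : Nb N) {g : G'} (hg : g ∈ H') {i : Fin k} {s : F}
    (hs : ActsSL N.e V D' g (sg i (up s))) {v : G'} (hv : v ∈ V) (h0 : ∀ l, l ≠ i → N.e v l = 0)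
    (h1 : N.e v i 1 = 0) : g * v = v * g := by
  by_cases hs0 : s = 0
  · subst hs0
    rw [up_zero, sg_one] at hs
    exact h.comm_of_one hg hs hv
  obtain ⟨w, hw, hwi, hwl⟩ := Nb.exists_single N i ![0, N.e v i 0 / s]
  have hgw := h.memV hg hw
  have hx : g * w * g⁻¹ * w⁻¹ ∈ V := mul_mem hgw (inv_mem hw)
  have hgg : g * g * w = w * (g * g) := by
    have h2 := h.acts_mul hg hs hs
    rw [← sg_mul, up_mul, CharTwo.add_self_eq_zero, up_zero, sg_one] at h2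
    exact h.comm_of_one (mul_mem hg hg) h2 hw
  have hgx : g * (g * w * g⁻¹ * w⁻¹) = (g * w * g⁻¹ * w⁻¹) * g := by
    have h2 : (g * w * g⁻¹ * w⁻¹)⁻¹ = g * w * g⁻¹ * w⁻¹ := h.inv_eq hx
    calc g * (g * w * g⁻¹ * w⁻¹) = (g * g * w) * g⁻¹ * w⁻¹ := by group
      _ = (w * (g * g)) * g⁻¹ * w⁻¹ := by rw [hgg]
      _ = (g * w * g⁻¹ * w⁻¹)⁻¹ * g := by group
      _ = _ := by rw [h2]
  have hd : v * (g * w * g⁻¹ * w⁻¹)⁻¹ ∈ D' := by
    rw [h.mem_D hv hx, h.e_div hgw hw]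
    funext l
    rw [Pi.add_apply, hs.1 w hw l]
    by_cases hl : l = i
    · subst hl
      rw [sg_self, hwi]
      refine vec_eq ?_ ?_
      · rw [Pi.add_apply, ap_up_0]
        simp only [Matrix.cons_val_zero, Matrix.cons_val_one, zero_add, add_zero]
        rw [mul_div_cancel₀ _ hs0]
      · rw [Pi.add_apply, ap_up_1, h1]
        simp only [Matrix.cons_val_one, Matrix.cons_val_zero]
        exact (CharTwo.add_self_eq_zero _).symm
    · rw [sg_ne hl, hwl l hl, h0 l hl, ap_zr, add_zero]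
  have h3 : Commute g (v * (g * w * g⁻¹ * w⁻¹)⁻¹) := hs.2 _ hd
  have h4 := h3.mul_right (show Commute g (g * w * g⁻¹ * w⁻¹) from hgx)
  have e : v * (g * w * g⁻¹ * w⁻¹)⁻¹ * (g * w * g⁻¹ * w⁻¹) = v := by group
  rw [e] at h4
  exact h4

/-- the commutators of `ν` with the `i`-th root group -/
def rootE (N : NatKM F T' H' V D' k) (h : Nb N) (i : Fin k) (ν : G') (hν : ν ∈ V)
    (hνl : ∀ l, l ≠ i → N.e ν l = 0) : Subgroup G' where
  carrier := {x | ∃ (t : F) (r : G'), r ∈ H' ∧ ActsSL N.e V D' r (sg i (up t)) ∧ x = r * ν * r⁻¹ * ν⁻¹}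
  mul_mem' := by
    rintro x y ⟨t, r, hr, hrA, rfl⟩ ⟨s, p, hp, hpA, rfl⟩
    refine ⟨t + s, r * p, mul_mem hr hp, ?_, ?_⟩
    · have h1 := h.acts_mul hp hrA hpA
      rwa [← sg_mul, up_mul] at h1
    · have hpν := h.memV hp hν
      have hrν := h.memV hr hν
      have hx : p * ν * p⁻¹ * ν⁻¹ ∈ V := mul_mem hpν (inv_mem hν)
      have hc : r * (p * ν * p⁻¹ * ν⁻¹) = (p * ν * p⁻¹ * ν⁻¹) * r := by
        refine line_cen h hr hrA hx (fun l hl => ?_) ?_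
        · rw [h.e_div hpν hν, Pi.add_apply, hpA.1 ν hν l, sg_ne hl, hνl l hl, ap_zr, add_zero]
        · rw [h.e_div hpν hν, Pi.add_apply, Pi.add_apply, hpA.1 ν hν i, sg_self, ap_up_1]
          exact CharTwo.add_self_eq_zero _
      calc r * ν * r⁻¹ * ν⁻¹ * (p * ν * p⁻¹ * ν⁻¹) = (p * ν * p⁻¹ * ν⁻¹) * (r * ν * r⁻¹ * ν⁻¹) :=
            h.cm (mul_mem hrν (inv_mem hν)) hx
        _ = (p * ν * p⁻¹ * ν⁻¹) * r * ν * r⁻¹ * ν⁻¹ := by group
        _ = r * (p * ν * p⁻¹ * ν⁻¹) * ν * r⁻¹ * ν⁻¹ := by rw [hc]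
        _ = r * p * ν * (r * p)⁻¹ * ν⁻¹ := by group
  one_mem' := ⟨0, 1, one_mem _, by rw [up_zero, sg_one]; exact Nb.acts_one, by group⟩
  inv_mem' := by
    rintro x ⟨t, r, hr, hrA, rfl⟩
    have hx : r * ν * r⁻¹ * ν⁻¹ ∈ V := mul_mem (h.memV hr hν) (inv_mem hν)
    exact ⟨t, r, hr, hrA, h.inv_eq hx⟩

/-- the vector and the subgroup, natural modules -/
structure VecE (H' V : Subgroup G') (𝒜' : Set (Subgroup G')) (ν : G') (E : Subgroup G') : Prop where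
  mem : ν ∈ V
  le : E ≤ V
  cms : ∀ A ∈ 𝒜', (∀ a ∈ A, a * ν = ν * a) ∨ cms ν A = E
  mv : ∃ A ∈ 𝒜', ∃ a ∈ A, a * ν ≠ ν * a
  free : ∀ x ∈ E, (∀ g ∈ H', g * x = x * g) → x = 1

theorem natE {N : NatKM F T' H' V D' k} (h : Nb N)
    {𝒜 : Set (Subgroup G')} (hA : ∀ A ∈ 𝒜, A ≤ T')
    (hoff : ∀ A ∈ 𝒜, A ≤ centralizer (V : Set G') ∨ OffM V A)
    (hne : ∃ A ∈ 𝒜, ¬ A ≤ centralizer (V : Set G')) :
    ∃ (i : Fin k) (ν : G') (E : Subgroup G'), VecE H' V 𝒜 ν E ∧ (∀ x ∈ E, ∀ l, l ≠ i → N.e x l = 0) ∧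
      ((∀ t : F, t = 0 ∨ t = 1) → ∃ g ∈ V, ∀ x ∈ E, x = 1 ∨ x * g = 1) := by
  obtain ⟨A₀, hA₀, hn₀⟩ := hne
  obtain ⟨I₀, hI₁, hI₂⟩ := N.offM A₀ (hA A₀ hA₀) ((hoff A₀ hA₀).resolve_left hn₀)
  obtain ⟨a₀, ha₀, hc₀⟩ := SetLike.not_le_iff_exists.mp hn₀
  obtain ⟨b₀, hb₀, hact₀⟩ := hI₁ a₀ ha₀
  have ha₀R : a₀ ∈ H' := h.SP' (hA A₀ hA₀ ha₀)
  obtain ⟨i, hi⟩ : ∃ i, b₀ i ≠ 0 := by
    by_contra hcon
    push Not at hcon
    apply hc₀
    rw [mem_centralizer_iff]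
    intro v hv
    refine (h.comm_of_one ha₀R ?_ hv).symm
    have e : (fun i => up (b₀ i)) = (1 : Fin k → Matrix.SpecialLinearGroup (Fin 2) F) := by
      funext l
      rw [hcon l, up_zero]
      rfl
    rwa [e] at hact₀
  obtain ⟨ν, hν, hνi, hνl⟩ := Nb.exists_single N i ![0, 1]
  have hEV : rootE N h i ν hν hνl ≤ V := by
    rintro x ⟨t, r, hr, hrA, rfl⟩
    exact mul_mem (h.memV hr hν) (inv_mem hν)
  refine ⟨i, ν, rootE N h i ν hν hνl, ⟨hν, hEV, fun A hA' => ?_, ⟨A₀, hA₀, a₀, ha₀, fun hc => ?_⟩, ?_⟩, ?_, ?_⟩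
  · rcases hoff A hA' with h1 | h1
    · left
      intro a ha
      exact (mem_centralizer_iff.1 (h1 ha) ν hν).symm
    obtain ⟨I, hI1, hI2⟩ := N.offM A (hA A hA') h1
    by_cases hiA : i ∈ I
    · right
      ext x
      constructor
      · rintro ⟨a, ha, rfl⟩
        obtain ⟨b, hb, hact⟩ := hI1 a ha
        have haR : a ∈ H' := h.SP' (hA A hA' ha)
        obtain ⟨r, hr, hrA⟩ := N.lift (sg i (up (b i)))
        refine ⟨b i, r, hr, hrA, ?_⟩
        have h2 := h.acts_mul haR (h.acts_inv hr hrA) hact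
        have h3 := h.dir (mul_mem (inv_mem hr) haR) h2 (j := i)
          (by rw [Pi.mul_apply, Pi.inv_apply, sg_self, inv_mul_cancel]) hν hνl
        congr 1
        calc a * ν * a⁻¹ = r * (r⁻¹ * a * ν) * a⁻¹ := by group
          _ = r * (ν * (r⁻¹ * a)) * a⁻¹ := by rw [h3]
          _ = r * ν * r⁻¹ := by group
      · rintro ⟨t, r, hr, hrA, rfl⟩
        obtain ⟨a, ha, hact⟩ := hI2 (Pi.single i t) fun l hl => by
          rw [Pi.single_eq_of_ne]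
          rintro rfl
          exact hl hiA
        refine ⟨a, ha, ?_⟩
        have haR : a ∈ H' := h.SP' (hA A hA' ha)
        have e : (fun l => up ((Pi.single i t : Fin k → F) l)) = sg i (up t) := by
          funext l
          by_cases hl : l = i
          · subst hl
            rw [Pi.single_eq_same, sg_self]
          · rw [Pi.single_eq_of_ne hl, sg_ne hl, up_zero]
        rw [e] at hact
        rw [h.same hr haR hrA hact hν]
    · left
      intro a ha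
      obtain ⟨b, hb, hact⟩ := hI1 a ha
      exact h.dir (h.SP' (hA A hA' ha)) hact (j := i) (by rw [hb i hiA, up_zero]) hν hνl
  · have h1 := h.up_entry hact₀ hν hνi
    have e : a₀ * ν * a₀⁻¹ = ν := by rw [hc]; group
    rw [e, hνi] at h1
    exact hi h1.symm
  · rintro x ⟨t, r, hr, hrA, rfl⟩ hx
    have hrν : r * ν * r⁻¹ ∈ V := h.memV hr hν
    have hxV : r * ν * r⁻¹ * ν⁻¹ ∈ V := mul_mem hrν (inv_mem hν)
    have hex : N.e (r * ν * r⁻¹ * ν⁻¹) i = ![t, 0] := by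
      rw [h.e_div hrν hν, Pi.add_apply, hrA.1 ν hν i, sg_self, hνi]
      refine vec_eq ?_ ?_
      · rw [Pi.add_apply, ap_up_0]
        simp
      · rw [Pi.add_apply, ap_up_1]
        simp only [Matrix.cons_val_one, Matrix.cons_val_zero]
        exact CharTwo.add_self_eq_zero _
    obtain ⟨g, hg, hgA⟩ := N.lift (sg i (lo 1))
    have h1 : g * (r * ν * r⁻¹ * ν⁻¹) * g⁻¹ = r * ν * r⁻¹ * ν⁻¹ := by
      rw [hx g hg]; group
    have h2 := hgA.1 _ hxV i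
    rw [h1, hex, sg_self] at h2
    have h3 := congrFun h2 1
    rw [ap_lo_1] at h3
    simp only [Matrix.cons_val_zero, Matrix.cons_val_one, one_mul, add_zero] at h3
    have ht : t = 0 := h3.symm
    subst ht
    have h4 : ActsSL N.e V D' r 1 := by
      rwa [up_zero, sg_one] at hrA
    have h5 := h.comm_of_one hr h4 hν
    rw [h5]
    group
  · rintro x ⟨t, r, hr, hrA, rfl⟩ l hl
    rw [h.e_div (h.memV hr hν) hν, Pi.add_apply, hrA.1 ν hν l, sg_ne hl, hνl l hl, ap_zr, add_zero]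
  · intro h01
    obtain ⟨r₁, hr₁, hr₁A⟩ := N.lift (sg i (up 1))
    have hx1 : r₁ * ν * r₁⁻¹ * ν⁻¹ ∈ V := mul_mem (h.memV hr₁ hν) (inv_mem hν)
    refine ⟨r₁ * ν * r₁⁻¹ * ν⁻¹, hx1, ?_⟩
    rintro x ⟨t, r, hr, hrA, rfl⟩
    rcases h01 t with rfl | rfl
    · left
      rw [up_zero, sg_one] at hrA
      rw [h.comm_of_one hr hrA hν]
      group
    · right
      rw [h.same hr hr₁ hrA hr₁A hν]
      exact h.sq hx1

end nat

/-! ### Even-subset modules -/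

theorem symE {V D' : Subgroup G'} {k m : ℕ} {N : SymKM T' H' V D' k m} (h : Sb N)
    {𝒜 : Set (Subgroup G')} (hA : ∀ A ∈ 𝒜, A ≤ T')
    (hoff : ∀ A ∈ 𝒜, A ≤ centralizer (V : Set G') ∨ OffM V A)
    (hne : ∃ A ∈ 𝒜, ¬ A ≤ centralizer (V : Set G')) :
    ∃ (ν : G') (E : Subgroup G'), VecE H' V 𝒜 ν E ∧ ∃ g ∈ V, ∀ x ∈ E, x = 1 ∨ x * g = 1 := by
  obtain ⟨A₀, hA₀, hn₀⟩ := hne
  obtain ⟨hd₀, hI₀⟩ := N.offM A₀ (hA A₀ hA₀) ((hoff A₀ hA₀).resolve_left hn₀)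
  obtain ⟨a₀, ha₀, hc₀⟩ := SetLike.not_le_iff_exists.mp hn₀
  obtain ⟨τ₀, hτ₀, hs₀⟩ := hI₀ a₀ ha₀
  have ha₀R : a₀ ∈ H' := h.SP' (hA A₀ hA₀ ha₀)
  obtain ⟨i, x, hx⟩ : ∃ i x, τ₀ i x ≠ x := by
    by_contra hcon
    push Not at hcon
    apply hc₀
    rw [mem_centralizer_iff]
    intro v hv
    have e : τ₀ = 1 := by
      funext l
      ext1 y
      exact hcon l y
    rw [e] at hτ₀
    exact (h.comm_of_one ha₀R ⟨hτ₀, hd₀ a₀ ha₀⟩ hv).symm
  obtain ⟨hinv, b₀, hb₀, hbact⟩ := hs₀ i x hx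
  set y := τ₀ i x with hy
  have hx0 : x ≠ 0 := by
    rintro rfl
    exact hx (N.fix0 a₀ (hA A₀ hA₀ ha₀) 1 τ₀ hτ₀ i)
  have hy0 : y ≠ 0 := by
    intro h0
    rw [h0, N.fix0 a₀ (hA A₀ hA₀ ha₀) 1 τ₀ hτ₀ i] at hinv
    exact hx0 hinv.symm
  have hxy : x ≠ y := fun h0 => hx h0.symm
  have hb₀R : b₀ ∈ H' := h.SP' (hA A₀ hA₀ hb₀)
  have hbAc : Ac N b₀ (NO3S.ThmB.pr i x y) := ⟨hbact, hd₀ b₀ hb₀⟩
  obtain ⟨ν, hν, hνe, hfix⟩ := h.nx hxy hx0 hy0 (i := i)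
  have hbν : N.e (b₀ * ν * b₀⁻¹) = dl i y + dl i 0 := by
    rw [Sb.e_pair hbact hν hνe]
    have e : (NO3S.ThmB.pr i x y) i = Equiv.swap x y := sg_self _ _
    change dl i ((NO3S.ThmB.pr i x y) i x) + dl i ((NO3S.ThmB.pr i x y) i 0) = _
    rw [e, Equiv.swap_apply_left, Equiv.swap_apply_of_ne_of_ne (Ne.symm hx0) (Ne.symm hy0)]
  have hbV : b₀ * ν * b₀⁻¹ ∈ V := h.memV hb₀R hν
  have hzV : b₀ * ν * b₀⁻¹ * ν⁻¹ ∈ V := mul_mem hbV (inv_mem hν)
  have hsq := h.sq hzV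
  let E : Subgroup G' :=
    { carrier := {z | z = 1 ∨ z = b₀ * ν * b₀⁻¹ * ν⁻¹}
      mul_mem' := by
        rintro a b (rfl | rfl) (rfl | rfl)
        · left; rw [one_mul]
        · right; rw [one_mul]
        · right; rw [mul_one]
        · left; exact hsq
      one_mem' := Or.inl rfl
      inv_mem' := by
        rintro a (rfl | rfl)
        · left; rw [inv_one]
        · right; exact h.inv_eq hzV }
  refine ⟨ν, E, ⟨hν, ?_, fun A hA' => ?_, ⟨A₀, hA₀, b₀, hb₀, fun hc => ?_⟩, ?_⟩, b₀ * ν * b₀⁻¹ * ν⁻¹, hzV, ?_⟩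
  · rintro z (rfl | rfl)
    · exact one_mem _
    · exact hzV
  · rcases hoff A hA' with h1 | h1
    · left
      intro a ha
      exact (mem_centralizer_iff.1 (h1 ha) ν hν).symm
    obtain ⟨hd, hI⟩ := N.offM A (hA A hA') h1
    have key : ∀ a ∈ A, a * ν = ν * a ∨ a * ν * a⁻¹ = b₀ * ν * b₀⁻¹ := by
      intro a ha
      obtain ⟨τ, hτ, hs⟩ := hI a ha
      have haT := hA A hA' ha
      have h0 : τ i 0 = 0 := N.fix0 a haT 1 τ hτ i
      by_cases hxa : τ i x = x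
      · left
        have hya : τ i y = y := by
          by_contra hc
          obtain ⟨hinv', b, hb, hbb⟩ := hs i y hc
          have h2 := h.disj (hA A₀ hA₀ hb₀) (hA A hA' hb) (i := i) (x := y) (y := x) (z := τ i y) hxy hc
            (by
              have e : NO3S.ThmB.pr i y x = NO3S.ThmB.pr i x y := by
                unfold NO3S.ThmB.pr; rw [Equiv.swap_comm]
              rw [e]; exact hbact) hbb
          rw [← h2, hxa] at hinv'
          exact hxy hinv'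
        exact hfix a (h.SP' haT) τ ⟨hτ, hd a ha⟩ hxa hya h0
      · right
        obtain ⟨hinv', b, hb, hbb⟩ := hs i x hxa
        have h2 := h.disj (hA A₀ hA₀ hb₀) (hA A hA' hb) (i := i) (x := x) (y := y) (z := τ i x) (Ne.symm hxy) hxa
          hbact hbb
        have haR : a ∈ H' := h.SP' haT
        have h3 := h.ac_mul haR (h.ac_inv hb₀R hbAc) (⟨hτ, hd a ha⟩ : Ac N a τ)
        have e : (NO3S.ThmB.pr i x y) i = Equiv.swap x y := sg_self _ _
        have e1 : ((NO3S.ThmB.pr i x y)⁻¹ * τ) i = Equiv.swap x y * τ i := by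
          rw [Pi.mul_apply, Pi.inv_apply, e, Equiv.swap_inv]
        rw [← h2] at hinv'
        have h4 := hfix _ (mul_mem (inv_mem hb₀R) haR) _ h3
          (by rw [e1, Equiv.Perm.mul_apply, ← h2, Equiv.swap_apply_right])
          (by rw [e1, Equiv.Perm.mul_apply, hinv', Equiv.swap_apply_left])
          (by rw [e1, Equiv.Perm.mul_apply, h0, Equiv.swap_apply_of_ne_of_ne (Ne.symm hx0) (Ne.symm hy0)])
        calc a * ν * a⁻¹ = b₀ * (b₀⁻¹ * a * ν) * a⁻¹ := by group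
          _ = b₀ * (ν * (b₀⁻¹ * a)) * a⁻¹ := by rw [h4]
          _ = b₀ * ν * b₀⁻¹ := by group
    by_cases hall : ∀ a ∈ A, a * ν = ν * a
    · exact Or.inl hall
    right
    push Not at hall
    obtain ⟨a, ha, han⟩ := hall
    have hab := (key a ha).resolve_left han
    ext z
    constructor
    · rintro ⟨c, hc, rfl⟩
      rcases key c hc with h2 | h2
      · left
        rw [h2]; group
      · right
        rw [h2]
    · rintro (rfl | rfl)
      · exact ⟨1, one_mem _, by group⟩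
      · exact ⟨a, ha, by rw [hab]⟩
  · have e : b₀ * ν * b₀⁻¹ = ν := by rw [hc]; group
    rw [e, hνe] at hbν
    have h1 := congrFun (congrFun hbν i) x
    rw [Pi.add_apply, Pi.add_apply, Pi.add_apply, Pi.add_apply, dl_self, dl_ne i hx0, dl_ne i hxy] at h1
    rw [add_zero, add_zero] at h1
    exact one_ne_zero h1
  · rintro z (rfl | rfl) hz
    · rfl
    exfalso
    have hze : N.e (b₀ * ν * b₀⁻¹ * ν⁻¹) = dl i x + dl i y := by
      rw [h.e_div hbV hν, hbν, hνe]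
      have : dl i y + dl i 0 + (dl i x + dl i 0) = (dl i x + dl i y) + (dl i 0 + dl i 0) := by abel
      rw [this, add_self2, add_zero]
    obtain ⟨g, hg, hgA⟩ := N.lift (NO3S.ThmB.pr i y 0)
    have h1 : g * (b₀ * ν * b₀⁻¹ * ν⁻¹) * g⁻¹ = b₀ * ν * b₀⁻¹ * ν⁻¹ := by
      rw [hz g hg]; group
    have h2 := Sb.e_pair hgA.1 hzV hze
    rw [h1, hze] at h2
    have e : (NO3S.ThmB.pr i y 0) i = Equiv.swap y 0 := sg_self _ _
    rw [e, Equiv.swap_apply_of_ne_of_ne hxy hx0, Equiv.swap_apply_left] at h2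
    have h3 := congrFun (congrFun h2 i) y
    rw [Pi.add_apply, Pi.add_apply, Pi.add_apply, Pi.add_apply, dl_self, dl_ne i (Ne.symm hxy), dl_ne i hy0] at h3
    rw [zero_add, add_zero] at h3
    exact one_ne_zero h3
  · rintro z (rfl | rfl)
    · exact Or.inl rfl
    · exact Or.inr hsq

/-! ### Back to `W / C` -/

/-- the full preimage -/
def pre (φ : W →* G') (E : Subgroup G') : Subgroup G := (E.comap φ).map W.subtype

theorem mem_pre {E : Subgroup G'} {x : G} : x ∈ pre φ E ↔ ∃ h : x ∈ W, φ ⟨x, h⟩ ∈ E := by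
  constructor
  · rintro ⟨y, hy, rfl⟩
    exact ⟨y.2, hy⟩
  · rintro ⟨h, hx⟩
    exact ⟨⟨x, h⟩, hx, rfl⟩

theorem Model.conclQ_of_vec (M : Model T R W C T' H' φ π) (D : QDat T R W C) {𝒜 : Set (Subgroup G)}
    (hA : ∀ A ∈ 𝒜, A ≤ T) (hex : ∀ A ∈ 𝒜, Ex W C A) {ν' : G'} {E' : Subgroup G'}
    (h : VecE H' (zl T' H') (im π '' 𝒜) ν' E')
    (halt : (∃ g ∈ zl T' H', ∀ x ∈ E', x = 1 ∨ x * g = 1) ∨
      (∀ x ∈ pre φ E', x ∉ C → ∀ K : Subgroup G, T ≤ K → (∀ h ∈ R, Odd (orderOf h) → h * x = x * h → h ∈ K) → R ≤ K) ∨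
      ∃ l D : Subgroup G, OneQ T R W C 𝒜 l D) : ConclQ T R W C 𝒜 := by
  obtain ⟨ν, rfl⟩ := M.exists_eq h.mem
  have hC1 : ∀ {x : G} (hx : x ∈ W), φ ⟨x, hx⟩ = 1 ↔ x ∈ C := fun hx => M.ker ⟨_, hx⟩
  have hcomm : ∀ {a : G} (ha : a ∈ R), π ⟨a, ha⟩ * φ ν = φ ν * π ⟨a, ha⟩ ↔ cq a ν ∈ C := fun ha =>
    (M.cq_iff D ⟨_, ha⟩ ν).symm
  refine ⟨ν, ν.2, pre φ E', fun c hc => ?_, ?_, fun A hA' => ?_, ?_, ?_, ?_⟩
  · exact mem_pre.2 ⟨D.CW hc, by rw [(hC1 (D.CW hc)).2 hc]; exact one_mem _⟩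
  · exact map_subtype_le _
  · have hAR : A ≤ R := (hA A hA').trans D.TR
    rcases h.cms _ ⟨A, hA', rfl⟩ with h1 | h1
    · left
      exact (hex A hA').2 ν ν.2 fun a ha => (hcomm (hAR ha)).1 (h1 _ (mem_im.2 ⟨⟨a, hAR ha⟩, ha, rfl⟩))
    · right
      refine ⟨fun a ha => ?_, fun x hx => ?_⟩
      · have hcq := D.cq_mem (hAR ha) ν.2
        refine mem_pre.2 ⟨hcq, ?_⟩
        rw [← M.cqq ⟨a, hAR ha⟩ ν hcq, ← SetLike.mem_coe, ← h1]
        exact ⟨_, mem_im.2 ⟨⟨a, hAR ha⟩, ha, rfl⟩, rfl⟩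
      · obtain ⟨hxW, hx'⟩ := mem_pre.1 hx
        rw [← SetLike.mem_coe, ← h1] at hx'
        obtain ⟨y, hy, e⟩ := hx'
        obtain ⟨a, ha, rfl⟩ := mem_im.1 hy
        refine ⟨a, ha, ?_⟩
        have hcq := D.cq_mem a.2 ν.2
        rw [← hC1 (mul_mem (inv_mem hxW) hcq)]
        have e1 : (⟨x⁻¹ * cq (a : G) ν, mul_mem (inv_mem hxW) hcq⟩ : W) = (⟨x, hxW⟩ : W)⁻¹ * ⟨cq (a : G) ν, hcq⟩ := rfl
        rw [e1, map_mul, map_inv, ← M.cqq a ν hcq, e, inv_mul_cancel]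
  · obtain ⟨_, ⟨A, hA', rfl⟩, y, hy, hny⟩ := h.mv
    obtain ⟨a, ha, rfl⟩ := mem_im.1 hy
    refine ⟨A, hA', a, ha, fun hc => hny ?_⟩
    rw [← M.cq_iff D a ν, cq_one_iff.2 hc]
    exact one_mem _
  · intro x hx hxR
    obtain ⟨hxW, hx'⟩ := mem_pre.1 hx
    rw [← hC1 hxW]
    refine h.free _ hx' fun g hg => ?_
    obtain ⟨p, v, hv, rfl⟩ := M.Hpi g hg
    have h1 : π p * φ ⟨x, hxW⟩ = φ ⟨x, hxW⟩ * π p := (M.cq_iff D p ⟨x, hxW⟩).1 (hxR p p.2)
    obtain ⟨w, rfl⟩ := M.exists_eq hv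
    have h2 : φ w * φ ⟨x, hxW⟩ = φ ⟨x, hxW⟩ * φ w := by
      rw [← map_mul, ← map_mul]
      congr 1
      exact Subtype.ext (D.ab w w.2 x hxW)
    calc φ w * π p * φ ⟨x, hxW⟩ = φ w * (φ ⟨x, hxW⟩ * π p) := by rw [mul_assoc, h1]
      _ = φ ⟨x, hxW⟩ * (φ w * π p) := by rw [← mul_assoc, h2, mul_assoc]
  · rcases halt with ⟨g', hg', hE⟩ | h1 | h1
    · left
      obtain ⟨g, rfl⟩ := M.exists_eq hg'
      refine ⟨g, fun x hx => ?_⟩
      obtain ⟨hxW, hx'⟩ := mem_pre.1 hx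
      rcases hE _ hx' with h2 | h2
      · exact Or.inl ((hC1 hxW).1 h2)
      · right
        rw [← hC1 (mul_mem hxW g.2)]
        rw [← map_mul] at h2
        exact h2
    · exact Or.inr (Or.inl h1)
    · exact Or.inr (Or.inr h1)

/-- **`ConclQ`**, given the case of one natural module with `q ≥ 4` -/
theorem conclQ_of [Finite G] [Finite G'] (hFF : StmtM.{u}) (D : QDat T R W C) (M : Model T R W C T' H' φ π)
    {𝒜 : Set (Subgroup G)} (hA : ∀ A ∈ 𝒜, A ≤ T) (hex : ∀ A ∈ 𝒜, Ex W C A)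
    (hoff : ∀ A ∈ 𝒜, A ≤ centralizer (W : Set G) ∨ OffM W A) (hne : ∃ A ∈ 𝒜, ¬ A ≤ centralizer (W : Set G))
    (hOne : ∀ (F : Type) [Field F] [Finite F] [CharP F 2], 4 ≤ Nat.card F →
      NatKM F T' H' (zl T' H') (cv T' H') 1 → ∃ l D : Subgroup G, OneQ T R W C 𝒜 l D) : ConclQ T R W C 𝒜 := by
  -- the images
  have hA' : ∀ A' ∈ im π '' 𝒜, A' ≤ T' := by
    rintro _ ⟨A, hA₁, rfl⟩
    exact M.im_le (hA A hA₁)
  have hoff' : ∀ A' ∈ im π '' 𝒜, A' ≤ centralizer (zl T' H' : Set G') ∨ OffM (zl T' H') A' := by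
    rintro _ ⟨A, hA₁, rfl⟩
    rcases hoff A hA₁ with h1 | h1
    · exact Or.inl (M.im_cen D h1)
    · exact Or.inr (M.offM D ((hA A hA₁).trans D.TR) (hex A hA₁) h1)
  have hne' : ∃ A' ∈ im π '' 𝒜, ¬ A' ≤ centralizer (zl T' H' : Set G') := by
    obtain ⟨A, hA₁, hn⟩ := hne
    refine ⟨im π A, ⟨A, hA₁, rfl⟩, fun hc => hn fun a ha => ?_⟩
    have haR : a ∈ R := D.TR (hA A hA₁ ha)
    exact (hex A hA₁).1 a ha ((M.tr_iff D ⟨a, haR⟩).2 (hc (mem_im.2 ⟨⟨a, haR⟩, ha, rfl⟩)))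
  obtain ⟨A₁, hA₁, hn₁⟩ := hne'
  obtain ⟨-, ⟨F, iF, iFin, iC, k, hk, ⟨N⟩⟩ | ⟨k, m, hk, hm, ⟨N⟩⟩⟩ :=
    hFF G' T' H' M.syl M.par M.char2 ⟨A₁, (hA' A₁ hA₁).trans M.syl.1, (hoff' A₁ hA₁).resolve_left hn₁⟩
  · have hN := nb_of M.syl M.char2 N
    obtain ⟨i, ν, E, hE, hEi, hE2⟩ := natE hN hA' hoff' ⟨A₁, hA₁, hn₁⟩
    refine M.conclQ_of_vec D hA hex hE ?_
    by_cases h4 : 4 ≤ Nat.card F
    · right
      by_cases hk1 : k = 1
      · right
        subst hk1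
        exact hOne F h4 N
      · left
        obtain ⟨j, hj⟩ : ∃ j : Fin k, j ≠ i := by
          have : Nontrivial (Fin k) := Fin.nontrivial_iff_two_le.2 (by omega)
          exact exists_ne i
        intro x hx _ K hTK hK
        obtain ⟨hxW, hx'⟩ := mem_pre.1 hx
        exact M.two_le D N h4 hj (x := ⟨x, hxW⟩) (fun l hl => hEi _ hx' l hl) hTK hK
    · left
      refine hE2 fun t => ?_
      by_contra hcon
      push Not at hcon
      refine h4 ?_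
      classical
      have := Fintype.ofFinite F
      have h1 : ({0, 1, t, t + 1} : Finset F).card = 4 := by
        rw [Finset.card_insert_of_notMem, Finset.card_insert_of_notMem, Finset.card_insert_of_notMem,
          Finset.card_singleton]
        · simp only [Finset.mem_singleton]
          intro h; exact one_ne_zero (α := F) (by linear_combination -h)
        · simp only [Finset.mem_insert, Finset.mem_singleton, not_or]
          exact ⟨Ne.symm hcon.2, fun h => hcon.1 (by linear_combination -h)⟩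
        · simp only [Finset.mem_insert, Finset.mem_singleton, not_or]
          refine ⟨zero_ne_one, Ne.symm hcon.1, fun h => hcon.2 ?_⟩
          have h2 : (2 : F) = 0 := CharTwo.two_eq_zero
          linear_combination -h - h2
      rw [Nat.card_eq_fintype_card, ← h1]
      exact Finset.card_le_univ _
  · obtain ⟨ν, E, hE, hE2⟩ := symE (sb_of hm M.syl M.char2 N) hA' hoff' ⟨A₁, hA₁, hn₁⟩
    exact M.conclQ_of_vec D hA hex hE (Or.inl hE2)

end Cfsg.Agent.Omega.NSix.Cen
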