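import Cfsg.Agent.Omega.NSix.Cen.QFacts
import Cfsg.Agent.Omega.NSix.HTwo.Vec
import Cfsg.Agent.Omega.SQ1.FFOne

/-!
# N6, THEOREM V (bb #19783, #20508), A3: one natural module, `q ≥ 4`

`M : Model T R W C T' H' φ π`, `N : NatKM F T' H' (zl T' H') (cv T' H') 1`, `4 ≤ |F|` give `OneQ T R W C 𝒜 l D`.

* `fE`, `pE` : `φ`, `π` as functions on `G`; `Mo` : their properties;
* `offM_map` : an exact offender on `W / C` gives an offender on `zl T' H'`;
* `cent_of_triv` : an element of `T'` which is trivial on `V' / D'` centralises `V'`;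
* `oneQ`.
-/

set_option autoImplicit false
set_option linter.unusedSectionVars false

namespace Cfsg.Agent.Omega.NSix.Cen

open Subgroup Cfsg Cfsg.Agent.ZN.ChoiceBase Cfsg.Agent.ZN.ChoiceSit
open Cfsg.Agent.ZN (zc zl o2)
open Cfsg.Agent.MinSimple.MinParabolic (IsMinPar)
open Cfsg.Agent.MinSimple.VModule (le_normalizer_zl oddGen mem_oddGen mem_normalizer_of_map_le)
open Cfsg.Agent.Omega.FFThm
open Cfsg.Agent.Omega.FrameFF (cv)
open Cfsg.Agent.Omega.HOne (cv_le le_normalizer_cv conj_mem_zl conj_mem_cv)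
open Cfsg.Agent.Omega.NO3S.ThmB (ap_up_0 ap_up_1 vec_eq)
open Cfsg.Agent.Lib.SL2Mat
open Cfsg.Agent.Omega.NatPair (ap)
open Cfsg.Agent.Omega.SQ1.FFOne (NatSec syl_inf)

universe u

/-! ### A natural module for `H'`, alone -/

section nat

variable {G' : Type u} [Group G'] {T' H' : Subgroup G'} {F : Type} [Field F]

/-- the natural section -/
def ns (N : NatKM F T' H' (zl T' H') (cv T' H') 1) : NatSec F H' (zl T' H') (cv T' H') where
  π v := N.e v 0
  map_mul v hv w hw := by rw [N.mul v hv w hw]; rfl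
  V0V := cv_le T' H'
  ker v hv := by
    rw [← N.ker v hv]
    constructor
    · intro h0
      funext i
      rw [Subsingleton.elim i 0, h0]
      rfl
    · intro h0
      rw [h0]
      rfl
  surj x := by
    obtain ⟨v, hv, hx⟩ := N.surj fun _ => x
    exact ⟨v, hv, by rw [hx]⟩
  Vn h hh v hv := conj_mem_zl hh hv
  V0n h hh v hv := conj_mem_cv hh hv
  lift A := by
    obtain ⟨g, hg, h1, h2⟩ := N.lift fun _ => A
    exact ⟨g, hg, fun v hv => h1 v hv 0⟩
  norm g hg x hx A hA := by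
    obtain ⟨B, hB⟩ := N.norm g hg x hx (fun _ => A) fun v hv i => by
      rw [Subsingleton.elim i 0]
      exact hA v hv
    exact ⟨B 0, fun v hv => hB v hv 0⟩

theorem ns_pi (N : NatKM F T' H' (zl T' H') (cv T' H') 1) (v : G') : (ns N).π v = N.e v 0 := rfl

theorem ns_ind (N : NatKM F T' H' (zl T' H') (cv T' H') 1) {g : G'}
    {A : Fin 1 → Matrix.SpecialLinearGroup (Fin 2) F} (h : ActsSL N.e (zl T' H') (cv T' H') g A) :
    (ns N).Ind g (A 0) := fun v hv => h.1 v hv 0

/-- `T'` normalises the line -/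
theorem ns_line (N : NatKM F T' H' (zl T' H') (cv T' H') 1) {t : G'} (ht : t ∈ T') (hTH : T' ≤ H')
    (x : Fin 2 → F) : (ns N).act t x 1 = 0 ↔ x 1 = 0 := by
  obtain ⟨v, hv, rfl⟩ := (ns N).surj x
  obtain ⟨σ, hσ⟩ := N.line t ht
  have h1 := hσ v hv 0
  rw [Subsingleton.elim (σ 0) 0] at h1
  rw [(ns N).act_π (hTH ht) hv]
  exact h1

/-- an element which acts trivially on `V' / D'` and on `D'` centralises `V'` -/
theorem ns_triv [Finite G'] (hT : Syl T' H') (hc : H' ⊓ centralizer (o2 H' : Set G') ≤ o2 H')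
    (N : NatKM F T' H' (zl T' H') (cv T' H') 1) {g : G'} (hg : g ∈ (ns N).kern)
    (h2 : ∀ d ∈ cv T' H', g * d = d * g) {v : G'} (hv : v ∈ zl T' H') : g * v = v * g :=
  HTwo.Vec.triv hT hc (cv_le T' H') (le_normalizer_cv T' H') hg.1
    (fun w hw => ((ns N).mem_kern_iff hg.1).1 hg w hw) h2 hv

/-- **an element of `T'` which is trivial on `V' / D'` centralises `V'`** -/
theorem cent_of_triv [Finite G'] (hT : Syl T' H') (hc : H' ⊓ centralizer (o2 H' : Set G') ≤ o2 H')
    (N : NatKM F T' H' (zl T' H') (cv T' H') 1) {s : G'} (hsT : s ∈ T') (hs : s ∈ (ns N).kern) :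
    s ∈ centralizer (zl T' H' : Set G') := by
  set S1 : Subgroup G' := T' ⊓ (ns N).kern with hS1
  set U1 : Subgroup G' := zl T' H' ⊓ centralizer (S1 : Set G') with hU1
  have hnk : H' ≤ normalizer ((ns N).kern : Set G') := fun g hg =>
    mem_normalizer_of_map_le (by
      rintro _ ⟨x, hx, rfl⟩
      exact (ns N).kern_norm hg hx)
  have key : H' ≤ H' ⊓ normalizer (U1 : Set G') := by
    refine N.gen _ ?_ ?_
    · refine le_inf hT.1 ?_
      have h1 : T' ≤ normalizer (S1 : Set G') :=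
        (le_inf le_normalizer (hT.1.trans hnk)).trans inf_normalizer_le_normalizer_inf
      have h2 : T' ≤ normalizer (centralizer (S1 : Set G') : Set G') :=
        h1.trans (BTwo.normalizer_le_normalizer_centralizer _)
      exact (le_inf (hT.1.trans (le_normalizer_zl T' H')) h2).trans inf_normalizer_le_normalizer_inf
    · intro h hh A hA
      refine ⟨hh, mem_normalizer_of_map_le ?_⟩
      rintro _ ⟨u, hu, rfl⟩
      change h * u * h⁻¹ ∈ U1
      have huV : h * u * h⁻¹ ∈ zl T' H' := conj_mem_zl hh hu.1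
      refine ⟨huV, mem_centralizer_iff.2 fun s hs => ?_⟩
      have hsH : s ∈ H' := hs.2.1
      set κ : G' := s * (h * s⁻¹ * h⁻¹) with hκ
      have hκk : κ ∈ (ns N).kern := mul_mem hs.2 ((ns N).kern_norm hh (inv_mem hs.2))
      have hκd : ∀ d ∈ cv T' H', κ * d = d * κ := by
        intro d hd
        have h1 : h⁻¹ * d * h = d := by
          rw [mul_assoc, ← hA.2 d hd, ← mul_assoc, inv_mul_cancel, one_mul]
        have h3 : s⁻¹ * d * s ∈ cv T' H' := by
          have := conj_mem_cv (inv_mem hsH) hd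
          rwa [inv_inv] at this
        have h4 := hA.2 _ h3
        calc κ * d = s * h * s⁻¹ * (h⁻¹ * d * h) * h⁻¹ := by rw [hκ]; group
          _ = s * (h * (s⁻¹ * d * s)) * s⁻¹ * h⁻¹ := by rw [h1]; group
          _ = s * ((s⁻¹ * d * s) * h) * s⁻¹ * h⁻¹ := by rw [h4]
          _ = d * κ := by rw [hκ]; group
      have h5 := ns_triv hT hc N hκk hκd huV
      have h6 : s * u = u * s := mem_centralizer_iff.1 hu.2 s hs
      have h7 : s⁻¹ * u * s = u := by rw [mul_assoc, ← h6, ← mul_assoc, inv_mul_cancel, one_mul]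
      -- `s (h u h⁻¹) s⁻¹ = κ (h u h⁻¹) κ⁻¹`
      calc s * (h * u * h⁻¹) = s * h * (s⁻¹ * s) * u * h⁻¹ := by group
        _ = κ * h * (s * u) * h⁻¹ := by rw [hκ]; group
        _ = κ * (h * u * h⁻¹) * (h * s * h⁻¹) := by rw [h6]; group
        _ = (h * u * h⁻¹) * κ * (h * s * h⁻¹) := by rw [h5]
        _ = h * u * h⁻¹ * s := by rw [hκ]; group
  have h1 : zl T' H' ≤ U1 := by
    refine MinSimple.VModule.zl_le ?_ (key.trans inf_le_right)
    refine le_inf (MinSimple.VModule.zc_le_zl T' H') ?_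
    exact (MinSimple.VModule.zc_le_centralizer T').trans (centralizer_le inf_le_left)
  rw [mem_centralizer_iff]
  intro v hv
  exact ((mem_centralizer_iff.1 (h1 hv).2 s ⟨hsT, hs⟩)).symm

/-- the elements of `H'` which fix the points of the line -/
theorem act_line_lin {S : NatSec F H' (zl T' H') (cv T' H')} [Finite F] {g : G'} (hg : g ∈ H')
    (h : ∀ x : Fin 2 → F, x 1 = 0 → S.act g x = x) : ∀ (c : F) x, S.act g (c • x) = c • S.act g x := by
  obtain ⟨s, hs⟩ := S.exists_semi hg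
  have hs1 : ∀ c, s c = c := by
    intro c
    have h1 := hs c ![1, 0]
    have h2 : S.act g ![1, 0] = ![1, 0] := h _ (by simp)
    have h3 : S.act g (c • ![1, 0]) = c • ![1, 0] := h _ (by simp)
    rw [h2, h3] at h1
    have h4 := congrFun h1 0
    simpa using h4.symm
  intro c x
  rw [hs, hs1]

/-- a 2-element of `H'` which fixes the points of the line acts as an upper unitriangular matrix -/
theorem act_up [CharP F 2] {S : NatSec F H' (zl T' H') (cv T' H')} [Finite F] {g : G'} (hg : g ∈ H') {n : ℕ}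
    (hn : g ^ 2 ^ n = 1) (h : ∀ x : Fin 2 → F, x 1 = 0 → S.act g x = x) :
    ∃ b : F, ∀ x, S.act g x = ap (up b) x := by
  have hlin := act_line_lin hg h
  set b : F := S.act g ![0, 1] 0 with hb
  set d : F := S.act g ![0, 1] 1 with hd
  have hform : ∀ x, S.act g x = ![x 0 + b * x 1, d * x 1] := by
    intro x
    have e : x = x 0 • ![1, 0] + x 1 • ![0, 1] := by
      refine vec_eq ?_ ?_ <;> simp
    have h1 : S.act g ![1, 0] = ![1, 0] := h _ (by simp)
    have h2 : S.act g ![0, 1] = ![b, d] := by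
      refine vec_eq ?_ ?_ <;> simp [hb, hd]
    rw [e, S.act_add hg, hlin, hlin, h1, h2]
    refine vec_eq ?_ ?_
    · simp; ring
    · simp; ring
  have hpow : ∀ m : ℕ, ∀ x, S.act (g ^ m) x 1 = d ^ m * x 1 := by
    intro m
    induction m with
    | zero => intro x; rw [pow_zero, pow_zero, S.act_one, one_mul]
    | succ m ih =>
      intro x
      rw [pow_succ, S.act_mul (pow_mem hg m) hg, ih, hform, pow_succ]
      simp only [Matrix.cons_val_one, Matrix.cons_val_zero]
      ring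
  have h1 : d ^ 2 ^ n = 1 := by
    have h2 := hpow (2 ^ n) ![0, 1]
    rw [hn, S.act_one] at h2
    simpa using h2.symm
  have hd1 : d = 1 := by
    have h2 : (d - 1) ^ 2 ^ n = 0 := by
      rw [sub_pow_char_pow (p := 2), h1, one_pow, sub_self]
    exact sub_eq_zero.1 ((pow_eq_zero_iff (by positivity)).1 h2)
  refine ⟨b, fun x => ?_⟩
  rw [hform, hd1]
  refine vec_eq ?_ ?_
  · rw [ap_up_0]; simp
  · rw [ap_up_1]; simp

end nat

/-! ### The model -/

section model

variable {G : Type u} [Group G] {T R W C : Subgroup G} {G' : Type u} [Group G'] {T' H' : Subgroup G'}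

/-- the model with functions on `G` -/
structure Mo (T R W C : Subgroup G) (T' H' : Subgroup G') (f p : G → G') : Prop where
  fmul : ∀ v ∈ W, ∀ w ∈ W, f (v * w) = f v * f w
  fV : ∀ w ∈ W, f w ∈ zl T' H'
  fsurj : ∀ v ∈ zl T' H', ∃ w ∈ W, f w = v
  fker : ∀ w ∈ W, f w = 1 ↔ w ∈ C
  pmul : ∀ g ∈ R, ∀ h ∈ R, p (g * h) = p g * p h
  act : ∀ g ∈ R, ∀ w ∈ W, p g * f w * (p g)⁻¹ = f (g * w * g⁻¹)
  pH : ∀ g ∈ R, p g ∈ H'
  pT : ∀ g ∈ T, p g ∈ T'
  Hp : ∀ h ∈ H', ∃ g ∈ R, ∃ v ∈ zl T' H', h = v * p g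

open Classical in
/-- `φ` as a function on `G` -/
noncomputable def fE {W : Subgroup G} (φ : W →* G') (g : G) : G' := if h : g ∈ W then φ ⟨g, h⟩ else 1

theorem fE_of {W : Subgroup G} {φ : W →* G'} {g : G} (h : g ∈ W) : fE φ g = φ ⟨g, h⟩ := by
  unfold fE
  rw [dif_pos h]

theorem mo_of (D : QDat T R W C) {φ : W →* G'} {π : R →* G'} (M : Model T R W C T' H' φ π) :
    Mo T R W C T' H' (fE φ) (fE π) where
  fmul v hv w hw := by
    rw [fE_of hv, fE_of hw, fE_of (mul_mem hv hw), ← map_mul]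
    rfl
  fV w hw := by
    rw [fE_of hw, ← M.range]
    exact ⟨_, rfl⟩
  fsurj v hv := by
    rw [← M.range] at hv
    obtain ⟨w, rfl⟩ := hv
    exact ⟨w, w.2, by rw [fE_of w.2]⟩
  fker w hw := by
    rw [fE_of hw]
    exact M.ker ⟨w, hw⟩
  pmul g hg h hh := by
    rw [fE_of hg, fE_of hh, fE_of (mul_mem hg hh), ← map_mul]
    rfl
  act g hg w hw := by
    rw [fE_of hg, fE_of hw, fE_of (D.memW hg hw)]
    exact M.act ⟨g, hg⟩ ⟨w, hw⟩ (D.memW hg hw)
  pH g hg := by
    rw [fE_of hg]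
    exact M.piH ⟨g, hg⟩
  pT g hg := by
    rw [fE_of (D.syl.1 hg)]
    exact M.piT ⟨g, D.syl.1 hg⟩ hg
  Hp h hh := by
    obtain ⟨g, v, hv, e⟩ := M.Hpi h hh
    exact ⟨g, g.2, v, hv, by rw [fE_of g.2]; exact e⟩

namespace Mo

variable {f p : G → G'} (M : Mo T R W C T' H' f p)

include M

theorem p1 : p 1 = 1 := by
  have h := M.pmul 1 (one_mem _) 1 (one_mem _)
  rw [mul_one] at h
  exact left_eq_mul.1 h

theorem ppow {g : G} (hg : g ∈ R) (n : ℕ) : p (g ^ n) = p g ^ n := by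
  induction n with
  | zero => rw [pow_zero, pow_zero, M.p1]
  | succ n ih => rw [pow_succ, M.pmul _ (pow_mem hg n) _ hg, ih, pow_succ]

theorem pinv {g : G} (hg : g ∈ R) : p g⁻¹ = (p g)⁻¹ := by
  have h := M.pmul g hg g⁻¹ (inv_mem hg)
  rw [mul_inv_cancel, M.p1] at h
  exact (inv_eq_of_mul_eq_one_right h.symm).symm

theorem f1 : f 1 = 1 := by
  have h := M.fmul 1 (one_mem _) 1 (one_mem _)
  rw [mul_one] at h
  exact left_eq_mul.1 h

theorem finv {w : G} (hw : w ∈ W) : f w⁻¹ = (f w)⁻¹ := by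
  have h := M.fmul w hw w⁻¹ (inv_mem hw)
  rw [mul_inv_cancel, M.f1] at h
  exact (inv_eq_of_mul_eq_one_right h.symm).symm

/-- equality in `V'` is equality modulo `C` -/
theorem f_eq_iff {v w : G} (hv : v ∈ W) (hw : w ∈ W) : f v = f w ↔ v⁻¹ * w ∈ C := by
  rw [← M.fker _ (mul_mem (inv_mem hv) hw), M.fmul _ (inv_mem hv) _ hw, M.finv hv, inv_mul_eq_one]

theorem cq_iff (D : QDat T R W C) {a w : G} (ha : a ∈ R) (hw : w ∈ W) : cq a w ∈ C ↔ p a * f w = f w * p a := by
  have h1 : a * w * a⁻¹ ∈ W := D.memW ha hw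
  have e : cq a w = a * w * a⁻¹ * w⁻¹ := rfl
  rw [e, ← M.fker _ (mul_mem h1 (inv_mem hw)), M.fmul _ h1 _ (inv_mem hw), M.finv hw, mul_inv_eq_one,
    ← M.act a ha w hw, mul_inv_eq_iff_eq_mul]

/-! ### Coordinates -/

variable {F : Type} [Field F] (N : NatKM F T' H' (zl T' H') (cv T' H') 1)

omit M in
/-- the coordinates of `w ∈ W` -/
def X (N : NatKM F T' H' (zl T' H') (cv T' H') 1) (f : G → G') (w : G) : Fin 2 → F := (ns N).π (f w)

theorem X_mul {v w : G} (hv : v ∈ W) (hw : w ∈ W) : X N f (v * w) = X N f v + X N f w := by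
  unfold X
  rw [M.fmul v hv w hw, (ns N).map_mul _ (M.fV v hv) _ (M.fV w hw)]

theorem X_surj (x : Fin 2 → F) : ∃ w ∈ W, X N f w = x := by
  obtain ⟨v, hv, e⟩ := (ns N).surj x
  obtain ⟨w, hw, rfl⟩ := M.fsurj v hv
  exact ⟨w, hw, e⟩

theorem X_C (D : QDat T R W C) {c : G} (hc : c ∈ C) : X N f c = 0 := by
  unfold X
  rw [(M.fker c (D.CW hc)).2 hc, (ns N).map_one]

theorem X_inv {w : G} (hw : w ∈ W) : X N f w⁻¹ = - X N f w := by
  unfold X
  rw [M.finv hw, (ns N).map_inv (M.fV w hw)]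

theorem X_act {g w : G} (hg : g ∈ R) (hw : w ∈ W) : X N f (g * w * g⁻¹) = (ns N).act (p g) (X N f w) := by
  unfold X
  rw [← M.act g hg w hw, (ns N).act_π (M.pH g hg) (M.fV w hw)]

theorem X_cq (D : QDat T R W C) {g w : G} (hg : g ∈ R) (hw : w ∈ W) :
    X N f (cq g w) = (ns N).act (p g) (X N f w) - X N f w := by
  have e : cq g w = g * w * g⁻¹ * w⁻¹ := rfl
  rw [e, M.X_mul N (D.memW hg hw) (inv_mem hw), M.X_act N hg hw, M.X_inv N hw, sub_eq_add_neg]

theorem X_eq_iff {v w : G} (hv : v ∈ W) (hw : w ∈ W) : X N f (v⁻¹ * w) = 0 ↔ X N f v = X N f w := by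
  rw [M.X_mul N (inv_mem hv) hw, M.X_inv N hv, neg_add_eq_zero]

/-- the preimage of `D'` -/
def DD : Subgroup G where
  carrier := {w | w ∈ W ∧ X N f w = 0}
  one_mem' := ⟨one_mem _, by unfold X; rw [M.f1, (ns N).map_one]⟩
  mul_mem' := by
    rintro v w ⟨hv, hv'⟩ ⟨hw, hw'⟩
    exact ⟨mul_mem hv hw, by rw [M.X_mul N hv hw, hv', hw', add_zero]⟩
  inv_mem' := by
    rintro v ⟨hv, hv'⟩
    exact ⟨inv_mem hv, by rw [M.X_inv N hv, hv', neg_zero]⟩

/-- the preimage of the line -/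
def LL : Subgroup G where
  carrier := {w | w ∈ W ∧ X N f w 1 = 0}
  one_mem' := ⟨one_mem _, by unfold X; rw [M.f1, (ns N).map_one]; rfl⟩
  mul_mem' := by
    rintro v w ⟨hv, hv'⟩ ⟨hw, hw'⟩
    exact ⟨mul_mem hv hw, by rw [M.X_mul N hv hw, Pi.add_apply, hv', hw', add_zero]⟩
  inv_mem' := by
    rintro v ⟨hv, hv'⟩
    exact ⟨inv_mem hv, by rw [M.X_inv N hv, Pi.neg_apply, hv', neg_zero]⟩

theorem mem_DD {w : G} : w ∈ M.DD N ↔ w ∈ W ∧ X N f w = 0 := Iff.rfl

theorem mem_LL {w : G} : w ∈ M.LL N ↔ w ∈ W ∧ X N f w 1 = 0 := Iff.rfl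

/-- `t` is trivial on the line iff `act` is -/
theorem line_iff (D : QDat T R W C) {t : G} (ht : t ∈ R) :
    (∀ w ∈ M.LL N, cq t w ∈ M.DD N) ↔ ∀ x : Fin 2 → F, x 1 = 0 → (ns N).act (p t) x = x := by
  constructor
  · intro h x hx
    obtain ⟨w, hw, rfl⟩ := M.X_surj N x
    have h1 := (h w ⟨hw, hx⟩).2
    rw [M.X_cq N D ht hw, sub_eq_zero] at h1
    exact h1
  · rintro h w ⟨hw, hx⟩
    refine ⟨D.cqW ht hw, ?_⟩
    rw [M.X_cq N D ht hw, h _ hx, sub_self]

/-- an element of `T` -/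
theorem act_line {t : G} (hTH : T' ≤ H') (ht : t ∈ T) (x : Fin 2 → F) :
    (ns N).act (p t) x 1 = 0 ↔ x 1 = 0 := ns_line N (M.pT t ht) hTH x

/-- every matrix is induced by an element of `R` -/
theorem exists_ind (A : Matrix.SpecialLinearGroup (Fin 2) F)
    (hab : ∀ v ∈ zl T' H', ∀ w ∈ zl T' H', v * w = w * v) :
    ∃ g ∈ R, ∀ x, (ns N).act (p g) x = ap A x := by
  obtain ⟨h, hh, hA⟩ := (ns N).lift A
  obtain ⟨g, hg, v, hv, e⟩ := M.Hp h hh
  refine ⟨g, hg, fun x => ?_⟩
  obtain ⟨w, hw, rfl⟩ := (ns N).surj x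
  rw [(ns N).act_π (M.pH g hg) hw, ← hA w hw]
  have hpg : p g * w * (p g)⁻¹ ∈ zl T' H' := conj_mem_zl (M.pH g hg) hw
  have h1 : h * w * h⁻¹ = p g * w * (p g)⁻¹ := by
    calc h * w * h⁻¹ = v * (p g * w * (p g)⁻¹) * v⁻¹ := by rw [e]; group
      _ = p g * w * (p g)⁻¹ := by rw [hab v hv _ hpg]; group
  rw [h1]

/-- `D / C` are the fixed points of the odd elements -/
theorem D_iff [Finite G] [CharP F 2] (D : QDat T R W C) (hab : ∀ v ∈ zl T' H', ∀ w ∈ zl T' H', v * w = w * v)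
    {w : G} (hw : w ∈ W) : w ∈ M.DD N ↔ ∀ h ∈ R, Odd (orderOf h) → cq h w ∈ C := by
  constructor
  · intro hwD h hh ho
    rw [M.cq_iff D hh hw]
    have h1 : f w ∈ cv T' H' := ((ns N).ker (f w) (M.fV w hw)).1 hwD.2
    have h2 : p h ∈ oddGen H' := by
      refine mem_oddGen (M.pH h hh) (ho.of_dvd_nat ?_)
      rw [orderOf_dvd_iff_pow_eq_one, ← M.ppow hh, pow_orderOf_eq_one, M.p1]
    exact mem_centralizer_iff.1 h1.2 _ h2
  · intro hall
    refine ⟨hw, ?_⟩
    have h11 : (1 : F) + 1 = 0 := CharTwo.add_self_eq_zero 1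
    have hneg : (-1 : F) = 1 := CharTwo.neg_eq 1
    set A : Matrix.SpecialLinearGroup (Fin 2) F :=
      Cfsg.Agent.Lib.SL2Mat.mk 0 1 1 1 (by rw [zero_mul, one_mul, zero_sub]; exact hneg) with hA
    obtain ⟨g, hg, hgA⟩ := M.exists_ind N A hab
    have hA3 : A ^ 3 = 1 := by
      rw [pow_succ, pow_two]
      apply ext_ent
      · rw [ent_mul, ent_mul, ent_mul]; simp [hA]
      · rw [ent_mul, ent_mul, ent_mul]; simp [hA, h11]
      · rw [ent_mul, ent_mul, ent_mul]; simp [hA, h11]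
      · rw [ent_mul, ent_mul, ent_mul]; simp [hA, h11]
    have hpow : ∀ m : ℕ, ∀ x, (ns N).act (p (g ^ m)) x = ap (A ^ m) x := by
      intro m
      induction m with
      | zero => intro x; rw [pow_zero, M.p1, (ns N).act_one, pow_zero, NatPair.ap_one]
      | succ m ih =>
        intro x
        rw [pow_succ, M.pmul _ (pow_mem hg m) _ hg, (ns N).act_mul (M.pH _ (pow_mem hg m)) (M.pH _ hg), hgA, ih,
          pow_succ, NatPair.ap_mul]
    -- a power of odd order which acts as `A`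
    obtain ⟨a, n, hn, hord⟩ := Nat.exists_eq_two_pow_mul_odd (n := orderOf g) (orderOf_pos g).ne'
    have h3 : ∀ a : ℕ, A ^ 4 ^ a = A := by
      intro a
      induction a with
      | zero => rw [pow_zero, pow_one]
      | succ a ih => rw [pow_succ, pow_mul, ih, pow_succ, hA3, one_mul]
    have h4 := h3 a
    have hodd : Odd (orderOf (g ^ 4 ^ a)) := by
      refine hn.of_dvd_nat ?_
      rw [orderOf_dvd_iff_pow_eq_one, ← pow_mul]
      have e : 4 ^ a * n = orderOf g * 2 ^ a := by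
        rw [hord]
        have : (4 : ℕ) ^ a = 2 ^ a * 2 ^ a := by rw [← mul_pow]; norm_num
        rw [this]; ring
      rw [e, pow_mul, pow_orderOf_eq_one, one_pow]
    have h5 := hall _ (pow_mem hg (4 ^ a)) hodd
    have h6 := M.X_C N D h5
    rw [M.X_cq N D (pow_mem hg _) hw, hpow, h4, sub_eq_zero] at h6
    set x := X N f w with hx
    have h7 : x 1 = x 0 := by
      have := congrFun h6 0
      rw [NatPair.ap_zero'] at this
      simpa [hA] using this
    have h8 : x 0 + x 1 = x 1 := by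
      have := congrFun h6 1
      rw [NatPair.ap_one'] at this
      simpa [hA] using this
    have h9 : x 0 = 0 := by simpa using h8
    refine vec_eq ?_ ?_
    · exact h9
    · rw [h7, h9]; rfl

end Mo

/-! ### Offenders -/

/-- an exact offender on `W / C` gives an offender on `V'` -/
theorem offM_map [Finite G] [Finite G'] (D : QDat T R W C) {φ : W →* G'} {π : R →* G'}
    (M : Model T R W C T' H' φ π) {A : Subgroup G} (hA : A ≤ R) (hex : Ex W C A) (hoff : OffM W A) :
    OffM (zl T' H') ((A.subgroupOf R).map π) := by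
  have hM := mo_of D M
  have hpi : ∀ (a : R) (w : W), (π a * φ w = φ w * π a) ↔ cq (a : G) w ∈ C := by
    intro a w
    have h1 := hM.cq_iff D a.2 w.2
    rw [fE_of a.2, fE_of w.2] at h1
    exact h1.symm
  have hcen : ∀ a : R, (a : G) ∈ A → (π a ∈ centralizer (zl T' H' : Set G') ↔ (a : G) ∈ centralizer (W : Set G)) := by
    intro a ha
    constructor
    · intro h
      refine hex.1 a ha fun w hw => ?_
      rw [← hpi a ⟨w, hw⟩]
      refine (mem_centralizer_iff.1 h _ ?_).symm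
      rw [← M.range]
      exact ⟨_, rfl⟩
    · intro h
      rw [mem_centralizer_iff]
      intro v hv
      rw [SetLike.mem_coe, ← M.range] at hv
      obtain ⟨w, rfl⟩ := hv
      refine ((hpi a w).2 ?_).symm
      have h2 := mem_centralizer_iff.1 h w w.2
      have e : cq (a : G) w = 1 := by
        unfold cq
        rw [← h2]; group
      rw [e]
      exact one_mem _
  refine ⟨⟨?_, ?_⟩, ?_, ?_⟩
  · rintro _ ⟨a, ha, rfl⟩
    rw [← map_pow]
    refine (hcen (a ^ 2) ?_).2 ?_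
    · exact pow_mem ha 2
    · exact hoff.sq a ha
  · rintro _ ⟨a, ha, rfl⟩ _ ⟨b, hb, rfl⟩
    rw [← map_mul, ← map_inv, ← map_mul, ← map_inv, ← map_mul]
    refine (hcen (a * b * a⁻¹ * b⁻¹) ?_).2 ?_
    · exact mul_mem (mul_mem (mul_mem ha hb) (inv_mem ha)) (inv_mem hb)
    · exact hoff.comm a ha b hb
  · intro h
    refine hoff.ne fun a ha => ?_
    exact (hcen ⟨a, hA ha⟩ ha).1 (h ⟨⟨a, hA ha⟩, ha, rfl⟩)
  · rw [relIndex_le_iff]
    have h1 := relIndex_le_iff.1 hoff.le
    have e1 : (centralizer (zl T' H' : Set G')).relIndex ((A.subgroupOf R).map π) =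
        (centralizer (W : Set G)).relIndex A := by
      rw [← relIndex_comap, ← inf_relIndex_right, ← inf_relIndex_right (centralizer (W : Set G)) A,
        ← relIndex_subgroupOf hA]
      congr 1
      ext a
      rw [mem_inf, mem_comap, mem_subgroupOf, mem_subgroupOf, mem_inf]
      constructor
      · rintro ⟨h2, h3⟩
        exact ⟨(hcen a h3).1 h2, h3⟩
      · rintro ⟨h2, h3⟩
        exact ⟨(hcen a h3).2 h2, h3⟩
    have e2 : (centralizer (((A.subgroupOf R).map π : Subgroup G') : Set G')).relIndex (zl T' H') =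
        (centralizer (A : Set G)).relIndex W := by
      have e3 : zl T' H' = (⊤ : Subgroup W).map φ := by rw [← M.range, MonoidHom.range_eq_map]
      rw [e3, ← relIndex_comap, relIndex_top_right, Subgroup.relIndex]
      congr 1
      ext w
      rw [mem_comap, mem_subgroupOf, mem_centralizer_iff, mem_centralizer_iff]
      constructor
      · intro h2 a ha
        refine hex.2 w w.2 (fun b hb => ?_) a ha
        rw [← hpi ⟨b, hA hb⟩ w]
        exact h2 _ ⟨⟨b, hA hb⟩, hb, rfl⟩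
      · rintro h2 _ ⟨a, ha, rfl⟩
        refine (hpi a w).2 ?_
        have e : cq (a : G) w = 1 := by
          unfold cq
          rw [h2 a ha]; group
        rw [e]
        exact one_mem _
    rw [e1, e2]
    exact h1

end model

theorem exists_nz_no {F : Type} [Field F] [Finite F] (h4 : 4 ≤ Nat.card F) : ∃ a : F, a ≠ 0 ∧ a ≠ 1 := by
  classical
  by_contra hcon
  push Not at hcon
  have h1 : Nat.card F ≤ Nat.card Bool := by
    refine Nat.card_le_card_of_injective (fun a : F => decide (a = 0)) ?_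
    intro a b hab
    by_cases ha : a = 0
    · subst ha
      by_contra hb
      have : decide (b = 0) = false := decide_eq_false (fun h => hb h.symm)
      simp only [decide_true, this] at hab
      exact absurd hab (by simp)
    · by_cases hb : b = 0
      · subst hb
        simp only [decide_eq_false ha, decide_true] at hab
        exact absurd hab (by simp)
      · rw [hcon a ha, hcon b hb]
  have h2 : Nat.card Bool = 2 := by rw [Nat.card_eq_fintype_card, Fintype.card_bool]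
  omega

/-- **A3 of #20508** -/
theorem oneQ {G : Type u} [Group G] [Finite G] {T R W C : Subgroup G} (D : QDat T R W C) {G' : Type u} [Group G']
    [Finite G'] {T' H' : Subgroup G'} {φ : W →* G'} {π : R →* G'} (M : Model T R W C T' H' φ π) {F : Type} [Field F]
    [Finite F] [CharP F 2] (N : NatKM F T' H' (zl T' H') (cv T' H') 1) (h4 : 4 ≤ Nat.card F)
    {𝒜 : Set (Subgroup G)} (hA : ∀ A ∈ 𝒜, A ≤ T) (hex : ∀ A ∈ 𝒜, Ex W C A)
    (hoff : ∀ A ∈ 𝒜, A ≤ centralizer (W : Set G) ∨ OffM W A) : ∃ l D₀ : Subgroup G, OneQ T R W C 𝒜 l D₀ := by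
  have hM := mo_of D M
  have hab : ∀ v ∈ zl T' H', ∀ w ∈ zl T' H', v * w = w * v := by
    intro v hv w hw
    rw [← M.range] at hv hw
    obtain ⟨v, rfl⟩ := hv
    obtain ⟨w, rfl⟩ := hw
    rw [← map_mul, ← map_mul]
    congr 1
    exact Subtype.ext (D.ab v v.2 w w.2)
  have hTR : T ≤ R := D.syl.1
  have hTH : T' ≤ H' := M.syl.1
  set S := ns N with hS
  set f := fE φ with hf
  set p := fE π with hp
  -- the facts for a nontrivial member
  have hmem : ∀ A ∈ 𝒜, ¬ A ≤ centralizer (W : Set G) →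
      (∀ a ∈ A, ∃ b : F, ActsSL N.e (zl T' H') (cv T' H') (p a) fun _ => up b) ∧
        ∀ b : F, ∃ a ∈ A, ActsSL N.e (zl T' H') (cv T' H') (p a) fun _ => up b := by
    intro A hA𝒜 hne
    have hAR : A ≤ R := (hA A hA𝒜).trans hTR
    have ho := offM_map D M hAR (hex A hA𝒜) ((hoff A hA𝒜).resolve_left hne)
    have hAT : (A.subgroupOf R).map π ≤ T' := by
      rintro _ ⟨a, ha, rfl⟩
      exact M.piT a (hA A hA𝒜 ha)
    obtain ⟨I, hI1, hI2⟩ := N.offM _ hAT ho
    have h0 : (0 : Fin 1) ∈ I := by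
      by_contra h0
      refine ho.ne fun a ha => ?_
      obtain ⟨b, hb, hact⟩ := hI1 a ha
      have e : (fun i => up (b i)) = (fun _ => 1 : Fin 1 → Matrix.SpecialLinearGroup (Fin 2) F) := by
        funext i
        rw [Subsingleton.elim i 0, hb 0 h0, up_zero]
      rw [e] at hact
      have haH := hTH (hAT ha)
      have h1 : a ∈ S.kern := (S.ind_one_iff haH).1 (ns_ind N hact)
      exact mem_centralizer_iff.2 fun v hv => (ns_triv M.syl M.char2 N h1 hact.2 hv).symm
    refine ⟨fun a ha => ?_, fun b => ?_⟩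
    · obtain ⟨b, -, hact⟩ := hI1 (π ⟨a, hAR ha⟩) ⟨⟨a, hAR ha⟩, ha, rfl⟩
      refine ⟨b 0, ?_⟩
      have e : (fun i => up (b i)) = (fun _ => up (b 0) : Fin 1 → Matrix.SpecialLinearGroup (Fin 2) F) := by
        funext i
        rw [Subsingleton.elim i 0]
      rw [e] at hact
      rw [hp, fE_of (hAR ha)]
      exact hact
    · obtain ⟨_, ⟨a, ha, rfl⟩, hact⟩ := hI2 (fun _ => b) fun i hi => absurd (by rwa [Subsingleton.elim i 0]) hi
      refine ⟨a, ha, ?_⟩
      rw [hp, fE_of a.2]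
      exact hact
  have hactup : ∀ {a : G} {b : F}, a ∈ R → ActsSL N.e (zl T' H') (cv T' H') (p a) (fun _ => up b) →
      ∀ x, S.act (p a) x = ap (up b) x := fun {a b} ha h => (S.ind_iff (hM.pH a ha)).1 (ns_ind N h)
  refine ⟨hM.LL N, hM.DD N, ?_⟩
  refine
    { CD := fun c hc => ⟨D.CW hc, hM.X_C N D hc⟩
      Dl := fun w hw => ⟨hw.1, by rw [hw.2]; rfl⟩
      lW := fun w hw => hw.1
      D_iff := fun w hw => hM.D_iff N D hab hw
      nD := fun g hg w hw => ⟨D.memW hg hw.1, by rw [hM.X_act N hg hw.1, hw.2, S.act_zero (hM.pH g hg)]⟩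
      nl := fun t ht w hw => ⟨D.memW (hTR ht) hw.1, by
        rw [hM.X_act N (hTR ht) hw.1]
        exact (hM.act_line N hTH ht _).2 hw.2⟩
      all := ?_
      fix := ?_
      cover := ?_
      root := ?_
      two := ?_
      frat := ?_ }
  · -- all
    intro A hA𝒜 hne w hw hwl x hx
    have hw1 : Mo.X N f w 1 ≠ 0 := fun h => hwl ⟨hw, h⟩
    obtain ⟨a, ha, hact⟩ := (hmem A hA𝒜 hne).2 (Mo.X N f x 0 / Mo.X N f w 1)
    have haR : a ∈ R := hTR (hA A hA𝒜 ha)
    refine ⟨a, ha, mul_mem (inv_mem hx.1) (D.cqW haR hw), ?_⟩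
    rw [hM.X_eq_iff N hx.1 (D.cqW haR hw), hM.X_cq N D haR hw, hactup haR hact]
    refine vec_eq ?_ ?_
    · rw [Pi.sub_apply, ap_up_0, div_mul_cancel₀ _ hw1]; ring
    · rw [Pi.sub_apply, ap_up_1, hx.2, sub_self]
  · -- fix
    intro A hA𝒜 hne w hw
    constructor
    · intro hwl a ha
      have haR : a ∈ R := hTR (hA A hA𝒜 ha)
      obtain ⟨b, hact⟩ := (hmem A hA𝒜 hne).1 a ha
      refine ⟨D.cqW haR hw, ?_⟩
      rw [hM.X_cq N D haR hw, hactup haR hact]
      refine vec_eq ?_ ?_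
      · rw [Pi.sub_apply, ap_up_0, hwl.2]; simp
      · rw [Pi.sub_apply, ap_up_1, sub_self]; rfl
    · intro h
      obtain ⟨a, ha, hact⟩ := (hmem A hA𝒜 hne).2 1
      have haR : a ∈ R := hTR (hA A hA𝒜 ha)
      refine ⟨hw, ?_⟩
      have h1 := (h a ha).2
      rw [hM.X_cq N D haR hw, hactup haR hact] at h1
      have h2 := congrFun h1 0
      rw [Pi.sub_apply, ap_up_0, Pi.zero_apply] at h2
      simpa using h2
  · -- cover
    intro A hA𝒜 a ha hntr x hx
    have haR : a ∈ R := hTR (hA A hA𝒜 ha)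
    have hne : ¬ A ≤ centralizer (W : Set G) := by
      intro h
      apply hntr
      intro w hw
      have h1 := mem_centralizer_iff.1 (h ha) w hw
      have e : cq a w = 1 := by
        unfold cq
        rw [← h1]; group
      rw [e]
      exact one_mem _
    obtain ⟨b, hact⟩ := (hmem A hA𝒜 hne).1 a ha
    have hb : b ≠ 0 := by
      rintro rfl
      apply hntr
      intro w hw
      rw [hM.cq_iff D haR hw]
      have hk : p a ∈ S.kern := by
        refine ⟨hM.pH a haR, fun x => ?_⟩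
        rw [hactup haR hact, up_zero, NatPair.ap_one]
      exact ns_triv M.syl M.char2 N hk hact.2 (hM.fV w hw)
    obtain ⟨w, hw, hwX⟩ := hM.X_surj N ![0, Mo.X N f x 0 / b]
    refine ⟨w, hw, mul_mem (inv_mem hx.1) (D.cqW haR hw), ?_⟩
    rw [hM.X_eq_iff N hx.1 (D.cqW haR hw), hM.X_cq N D haR hw, hactup haR hact, hwX]
    refine vec_eq ?_ ?_
    · rw [Pi.sub_apply, ap_up_0]
      simp only [Matrix.cons_val_zero, Matrix.cons_val_one]
      rw [mul_div_cancel₀ _ hb]; ring
    · rw [Pi.sub_apply, ap_up_1, hx.2, sub_self]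
  · -- root
    intro t ht htl A hA𝒜 hne
    have htR := hTR ht
    have hline := (hM.line_iff N D htR).1 htl
    obtain ⟨n, hn⟩ := D.syl.2.1 ⟨t, ht⟩
    have hn' : t ^ 2 ^ n = 1 := by simpa using congrArg Subtype.val hn
    obtain ⟨b, hb⟩ := act_up (hM.pH t htR) (n := n) (by rw [← hM.ppow htR, hn', hM.p1]) hline
    obtain ⟨a, ha, hact⟩ := (hmem A hA𝒜 hne).2 b
    have haT := hA A hA𝒜 ha
    have haR : a ∈ R := hTR haT
    have hs : (p a)⁻¹ * p t ∈ centralizer (zl T' H' : Set G') := by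
      refine cent_of_triv M.syl M.char2 N (mul_mem (inv_mem (hM.pT a haT)) (hM.pT t ht)) ?_
      refine ⟨mul_mem (inv_mem (hM.pH a haR)) (hM.pH t htR), fun x => ?_⟩
      change S.act ((p a)⁻¹ * p t) x = x
      rw [S.act_mul (inv_mem (hM.pH a haR)) (hM.pH t htR), hb, ← hactup haR hact, S.act_inv_act (hM.pH a haR)]
    refine ⟨a, ha, fun w hw => ?_⟩
    rw [← hM.f_eq_iff (D.memW haR hw) (D.memW htR hw), ← hM.act a haR w hw, ← hM.act t htR w hw]
    have h1 := mem_centralizer_iff.1 hs (f w) (hM.fV w hw)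
    calc p a * f w * (p a)⁻¹ = p a * (f w * ((p a)⁻¹ * p t)) * (p t)⁻¹ := by group
      _ = p a * (((p a)⁻¹ * p t) * f w) * (p t)⁻¹ := by rw [h1]
      _ = p t * f w * (p t)⁻¹ := by group
  · -- two
    rintro t ht ⟨x, hx⟩
    have htR := hTR ht
    have htH := hM.pH t htR
    rw [hM.line_iff N D htR]
    by_contra hcon
    push Not at hcon
    obtain ⟨y0, hy0, hy⟩ := hcon
    -- the value `d'`
    have hdelta : ∀ y, S.act (p t) y - y = 0 ∨ S.act (p t) y - y = S.act (p t) y0 - y0 := by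
      intro y
      obtain ⟨w, hw, rfl⟩ := hM.X_surj N y
      obtain ⟨w0, hw0, rfl⟩ := hM.X_surj N y0
      rcases hx w hw with h1 | h1
      · left
        rw [← hM.X_cq N D htR hw]
        exact hM.X_C N D h1
      · right
        rcases hx w0 hw0 with h2 | h2
        · exfalso
          apply hy
          have h3 := hM.X_C N D h2
          rw [hM.X_cq N D htR hw0, sub_eq_zero] at h3
          exact h3
        · have h3 : (cq t w0)⁻¹ * cq t w ∈ C := by
            have e : (cq t w0)⁻¹ * cq t w = x * (cq t w0 * x)⁻¹ * (cq t w * x) * x⁻¹ := by group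
            have hxW : x ∈ W := by
              have : x = (cq t w0)⁻¹ * (cq t w0 * x) := by group
              rw [this]
              exact mul_mem (inv_mem (D.cqW htR hw0)) (D.CW h2)
            have h4 : (cq t w0 * x)⁻¹ * (cq t w * x) ∈ C := mul_mem (inv_mem h2) h1
            have e2 : x * (cq t w0 * x)⁻¹ * (cq t w * x) * x⁻¹ = (cq t w0 * x)⁻¹ * (cq t w * x) := by
              have h5 := D.ab x hxW _ (D.CW h4)
              calc x * (cq t w0 * x)⁻¹ * (cq t w * x) * x⁻¹ = (x * ((cq t w0 * x)⁻¹ * (cq t w * x))) * x⁻¹ := by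
                    group
                _ = _ := by rw [h5]; group
            rw [e, e2]
            exact h4
          rw [← hM.X_cq N D htR hw, ← hM.X_cq N D htR hw0]
          have h6 := hM.X_C N D h3
          rw [hM.X_eq_iff N (D.cqW htR hw0) (D.cqW htR hw)] at h6
          exact h6.symm
    obtain ⟨s, hs⟩ := S.exists_semi htH
    have hd1 : (S.act (p t) y0 - y0) 1 = 0 := by
      rw [Pi.sub_apply, (hM.act_line N hTH ht y0).2 hy0, hy0, sub_zero]
    have hdel1 : ∀ y, S.act (p t) y 1 = y 1 := by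
      intro y
      rcases hdelta y with h1 | h1
      · rw [sub_eq_zero] at h1
        rw [h1]
      · have h2 := congrFun h1 1
        rw [hd1, Pi.sub_apply, sub_eq_zero] at h2
        exact h2
    have hs1 : ∀ c, s c = c := by
      intro c
      have h1 := congrFun (hs c ![0, 1]) 1
      have h2 : (s c • S.act (p t) ![0, 1]) 1 = s c * S.act (p t) ![0, 1] 1 := rfl
      rw [hdel1, h2, hdel1] at h1
      simpa using h1.symm
    -- `y0 = c0 e0`
    have he : y0 = y0 0 • ![1, 0] := by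
      refine vec_eq ?_ ?_ <;> simp [hy0]
    have hlin : ∀ c : F, S.act (p t) (c • ![1, 0]) - c • ![1, 0] = c • (S.act (p t) ![1, 0] - ![1, 0]) := by
      intro c
      rw [hs, hs1, smul_sub]
    have hde : S.act (p t) ![1, 0] - ![1, 0] ≠ 0 := by
      intro h1
      apply hy
      have h2 := hlin (y0 0)
      rw [h1, smul_zero, ← he, sub_eq_zero] at h2
      exact h2
    obtain ⟨c, hc0, hc1⟩ := exists_nz_no h4
    have h1 := (hdelta ![1, 0]).resolve_left hde
    have h2 := (hdelta (c • ![1, 0])).resolve_left (by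
      rw [hlin]
      exact smul_ne_zero hc0 hde)
    rw [hlin, ← h1] at h2
    have h3 : (c - 1) • (S.act (p t) ![1, 0] - ![1, 0]) = 0 := by
      rw [sub_smul, h2, one_smul, sub_self]
    rcases smul_eq_zero.1 h3 with h5 | h5
    · exact hc1 (sub_eq_zero.1 h5)
    · exact hde h5
  · -- frat
    let L0 : Subgroup G :=
      { carrier := {g | g ∈ R ∧ ∀ x : Fin 2 → F, x 1 = 0 → S.act (p g) x = x}
        mul_mem' := by
          rintro a b ⟨ha, ha'⟩ ⟨hb, hb'⟩
          refine ⟨mul_mem ha hb, fun x hx => ?_⟩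
          rw [hM.pmul a ha b hb, S.act_mul (hM.pH a ha) (hM.pH b hb), hb' x hx, ha' x hx]
        one_mem' := ⟨one_mem _, fun x _ => by rw [hM.p1, S.act_one]⟩
        inv_mem' := by
          rintro a ⟨ha, ha'⟩
          refine ⟨inv_mem ha, fun x hx => ?_⟩
          rw [hM.pinv ha]
          nth_rewrite 1 [← ha' x hx]
          exact S.act_inv_act (hM.pH a ha) x }
    let N1 : Subgroup G :=
      { carrier := {g | g ∈ R ∧ ∀ x : Fin 2 → F, S.act (p g) x 1 = 0 ↔ x 1 = 0}
        mul_mem' := by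
          rintro a b ⟨ha, ha'⟩ ⟨hb, hb'⟩
          refine ⟨mul_mem ha hb, fun x => ?_⟩
          rw [hM.pmul a ha b hb, S.act_mul (hM.pH a ha) (hM.pH b hb), ha', hb']
        one_mem' := ⟨one_mem _, fun x => by rw [hM.p1, S.act_one]⟩
        inv_mem' := by
          rintro a ⟨ha, ha'⟩
          refine ⟨inv_mem ha, fun x => ?_⟩
          rw [hM.pinv ha, ← ha', S.act_act_inv (hM.pH a ha)] }
    have hL0N1 : L0 ≤ N1 := by
      rintro g ⟨hg, hg'⟩
      refine ⟨hg, fun x => ⟨fun hx => ?_, fun hx => by rw [hg' x hx]; exact hx⟩⟩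
      have h1 := hg' _ hx
      have h2 : S.act (p g) x = x := by
        have h3 := congrArg (S.act (p g)⁻¹) h1
        rw [S.act_inv_act (hM.pH g hg), S.act_inv_act (hM.pH g hg)] at h3
        exact h3
      rw [← h2]
      exact hx
    have hnorm : ∀ n ∈ N1, ∀ g ∈ L0, n * g * n⁻¹ ∈ L0 := by
      rintro n ⟨hn, hn'⟩ g ⟨hg, hg'⟩
      refine ⟨mul_mem (mul_mem hn hg) (inv_mem hn), fun x hx => ?_⟩
      have h1 : (S.act (p n)⁻¹ x) 1 = 0 := by
        rw [← hn', S.act_act_inv (hM.pH n hn)]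
        exact hx
      rw [hM.pmul _ (mul_mem hn hg) _ (inv_mem hn), hM.pmul _ hn _ hg, hM.pinv hn,
        S.act_mul (mul_mem (hM.pH n hn) (hM.pH g hg)) (inv_mem (hM.pH n hn)), S.act_mul (hM.pH n hn) (hM.pH g hg),
        hg' _ h1, S.act_act_inv (hM.pH n hn)]
    have hTN1 : T ≤ N1 := fun t ht => ⟨hTR ht, hM.act_line N hTH ht⟩
    have hsylN : Syl T N1 := ⟨hTN1, D.syl.2.1, fun Q hQ h2 hle => D.syl.2.2 Q (fun x hx => (hQ hx).1) h2 hle⟩
    have hsy := syl_inf hsylN hL0N1 hnorm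
    obtain ⟨a, ha0, ha1⟩ := exists_nz_no h4
    obtain ⟨g, hg, hgA⟩ := hM.exists_ind N (Cfsg.Agent.Lib.SL2Mat.mk a 0 0 a⁻¹ (by field_simp; simp)) hab
    have hgN : g ∈ N1 := by
      refine ⟨hg, fun x => ?_⟩
      rw [hgA, NatPair.ap_one']
      simp [ha0]
    have h3 : Syl (cj g (T ⊓ L0)) L0 := by
      refine ⟨?_, isPGroup_cj g hsy.2.1, ?_⟩
      · rintro _ ⟨k, hk, rfl⟩
        exact hnorm g hgN k (mem_inf.1 hk).2
      · intro Q hQ h2 hle
        have h5 : T ⊓ L0 ≤ cj g⁻¹ Q := cj_le_iff.1 hle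
        have h6 : cj g⁻¹ Q ≤ L0 := by
          rintro _ ⟨k, hk, rfl⟩
          exact hnorm g⁻¹ (inv_mem hgN) k (hQ hk)
        have h7 := hsy.2.2 _ h6 (isPGroup_cj _ h2) h5
        rw [← h7, cj_cj_inv]
    obtain ⟨n, hn, e⟩ := syl_conj h3 hsy
    rw [cj_cj] at e
    have hnR : n ∈ R := hn.1
    refine ⟨n * g, mul_mem hnR hg, ?_, ?_⟩
    · intro t ht htl
      have htL : t ∈ T ⊓ L0 := ⟨ht, hTR ht, (hM.line_iff N D (hTR ht)).1 htl⟩
      constructor
      · have h5 : n * g * t * (n * g)⁻¹ ∈ T ⊓ L0 := by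
          rw [← e]
          exact ⟨t, htL, rfl⟩
        exact h5.1
      · have h5 : t ∈ cj (n * g) (T ⊓ L0) := by rw [e]; exact htL
        exact (mem_cj.1 h5).1
    · intro w hw h5
      refine ⟨hw.1, ?_⟩
      have h6 := h5.2
      have h7 : (S.act (p g) (Mo.X N f w)) 1 = 0 := (hgN.2 _).2 hw.2
      rw [hM.X_cq N D (mul_mem hnR hg) hw.1, hM.pmul _ hnR _ hg, S.act_mul (hM.pH n hnR) (hM.pH g hg),
        hn.2 _ h7, hgA] at h6
      have h8 := congrFun h6 0
      rw [Pi.sub_apply, NatPair.ap_zero', Pi.zero_apply] at h8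
      have h9 : (a - 1) * Mo.X N f w 0 = 0 := by
        simp only [mk_00, mk_01, zero_mul, add_zero] at h8
        rw [sub_mul, one_mul]
        exact h8
      refine vec_eq ?_ hw.2
      exact (mul_eq_zero.1 h9).resolve_left (sub_ne_zero.2 ha1)

end Cfsg.Agent.Omega.NSix.Cen
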