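import Cfsg.Agent.Omega.NSix.Cen.Model
import Cfsg.Agent.Omega.NSix.Cen.QFF
import Cfsg.Agent.Omega.NSix.Cen.QOne

/-!
# N6, THEOREM V (bb #19783, #20508): the FF theorem for a minimal parabolic acting on `W / C`, assembled

* `conclQ` : `ConclQ` over a model (A2 + A3);
* `QDat.noOverQ`, `QDat.conclQ` : without a model (A1).
-/

set_option autoImplicit false

namespace Cfsg.Agent.Omega.NSix.Cen

open Subgroup Cfsg
open Cfsg.Agent.ZN (zc zl o2)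
open Cfsg.Agent.Omega.FFThm

universe u

variable {G : Type u} [Group G] {T R W C : Subgroup G}

/-- **the conclusion, over a model** -/
theorem conclQ [Finite G] (hFF : StmtM.{u}) (D : QDat T R W C) {G' : Type u} [Group G'] [Finite G']
    {T' H' : Subgroup G'} {φ : W →* G'} {π : R →* G'} (M : Model T R W C T' H' φ π) {𝒜 : Set (Subgroup G)}
    (hA : ∀ A ∈ 𝒜, A ≤ T) (hex : ∀ A ∈ 𝒜, Ex W C A) (hoff : ∀ A ∈ 𝒜, A ≤ centralizer (W : Set G) ∨ OffM W A)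
    (hne : ∃ A ∈ 𝒜, ¬ A ≤ centralizer (W : Set G)) : ConclQ T R W C 𝒜 :=
  conclQ_of hFF D M hA hex hoff hne fun _ _ _ _ h4 N => oneQ D M N h4 hA hex hoff

/-- **no over-offenders on `W / C`** -/
theorem QDat.noOverQ [Finite G] (hFF : StmtM.{u}) (D : QDat T R W C) : NoOverQ R W C := by
  obtain ⟨G', _, _, T', H', φ, π, M⟩ := exists_model D
  exact Cen.noOverQ hFF D M

/-- **the conclusion** -/
theorem QDat.conclQ [Finite G] (hFF : StmtM.{u}) (D : QDat T R W C) {𝒜 : Set (Subgroup G)}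
    (hA : ∀ A ∈ 𝒜, A ≤ T) (hex : ∀ A ∈ 𝒜, Ex W C A) (hoff : ∀ A ∈ 𝒜, A ≤ centralizer (W : Set G) ∨ OffM W A)
    (hne : ∃ A ∈ 𝒜, ¬ A ≤ centralizer (W : Set G)) : ConclQ T R W C 𝒜 := by
  obtain ⟨G', _, _, T', H', φ, π, M⟩ := exists_model D
  exact Cen.conclQ hFF D M hA hex hoff hne

theorem noOverQ' [Finite G] (hFF : StmtM.{u}) (D : QDat T R W C) : NoOverQ R W C := D.noOverQ hFF

theorem conclQ' [Finite G] (hFF : StmtM.{u}) (D : QDat T R W C) {𝒜 : Set (Subgroup G)}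
    (hA : ∀ A ∈ 𝒜, A ≤ T) (hex : ∀ A ∈ 𝒜, Ex W C A) (hoff : ∀ A ∈ 𝒜, A ≤ centralizer (W : Set G) ∨ OffM W A)
    (hne : ∃ A ∈ 𝒜, ¬ A ≤ centralizer (W : Set G)) : ConclQ T R W C 𝒜 := D.conclQ hFF hA hex hoff hne

end Cfsg.Agent.Omega.NSix.Cen
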