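import Cfsg.Agent.Omega.NSix.Cen.QDef
import Cfsg.Agent.Omega.NSix.HTwo.LemP

/-!
# N6, THEOREM V (bb #19783), (6)(ii): `D ≤ V`  (helper69)

* `vlab_trans` : `g ∈ U_ij V` is transitive;
* `p_one` : (P1): `y ∈ U_ab`, `ν ∈ Q_ax` centralises `V`: `[y, ν] ∈ U_bx V`;
* `mem_of_vlab` : `g ∈ U_ij V` for all `i`, `j ≠ o` implies `g ∈ V`;
* `frame_E_le_V`, `hyp_E_le_V` : the statement over `Engine.Fr`, `Engine.Hyp`, for `ν ∈ C_G(V)` with
  `[ν, U_ij] = 1 → ν ∈ Q_ij` for `i`, `j ≠ o`.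
-/

set_option autoImplicit false
set_option linter.unusedSectionVars false

namespace Cfsg.Agent.Omega.NSix.Cen

open Subgroup Cfsg
open Cfsg.Agent.ZN (o2)
open Cfsg.Agent.Omega.S5.Def Cfsg.Agent.Omega.NSix.Base Cfsg.Agent.Omega.NSix.Basic
open Cfsg.Agent.Omega.NSix.Engine
open Cfsg.Agent.Omega.TTn.Di (cm cj cj_mul cj_inv cj_cj cj_one cj_eq_of_comm comm_of_cj cj_eq_cm cm_eq
  cm_one_iff cm_eq')

universe u

variable {G : Type u} [Group G] {n : ℕ}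

section Frame

variable {ε : (Fin n → ZMod 2) → G} {U W Q : Fin n → Fin n → Subgroup G} {w : Fin n → Fin n → G}
  (F : Fr ε U W Q w) {i j k a b x : Fin n}

/-- `g ∈ U_ij V` (or `i = j`) -/
def VLab (ε : (Fin n → ZMod 2) → G) (U : Fin n → Fin n → Subgroup G) (g : G) (i j : Fin n) : Prop :=
  ∃ f, Lab U (g * ε f) i j

include F

theorem vlab_symm {g : G} (h : VLab ε U g i j) : VLab ε U g j i := by
  obtain ⟨f, hf⟩ := h
  exact ⟨f, F.lab_symm hf⟩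

theorem vlab_trans {g : G} (h1 : VLab ε U g i j) (h2 : VLab ε U g j k) : VLab ε U g i k := by
  obtain ⟨f, hf⟩ := h1
  obtain ⟨f', hf'⟩ := h2
  rcases eq_or_ne i j with rfl | hij
  · exact ⟨f', hf'⟩
  rcases eq_or_ne j k with rfl | hjk
  · exact ⟨f, hf⟩
  rcases eq_or_ne i k with rfl | hik
  · exact ⟨0, Or.inl rfl⟩
  obtain ⟨t, ht⟩ : ∃ t, t = f j + f k + f' j + f' k := ⟨_, rfl⟩
  refine ⟨f + Pi.single k t, F.lab_trans (j := j) ?_ ?_⟩
  · rw [F.add, ← mul_assoc]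
    refine Fr.lab_mul hf ((F.lab_e _).2 ?_)
    rw [Pi.single_eq_of_ne hik, Pi.single_eq_of_ne hjk]
  · have e : f + Pi.single k t = f' + (f + f' + Pi.single k t) := by
      have h2 : f' + f' = 0 := add_self f'
      calc f + Pi.single k t = f + (f' + f') + Pi.single k t := by rw [h2, add_zero]
        _ = _ := by abel
    rw [e, F.add, ← mul_assoc]
    refine Fr.lab_mul hf' ((F.lab_e _).2 ?_)
    rw [Pi.add_apply, Pi.add_apply, Pi.add_apply, Pi.add_apply, Pi.single_eq_of_ne hjk, Pi.single_eq_same, ht]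
    have key : ∀ a b c d : ZMod 2, a + b + 0 = c + d + (a + c + b + d) := by decide
    exact key _ _ _ _

/-- **(P1)** -/
theorem p_one (hab : a ≠ b) (hxa : x ≠ a) (hxb : x ≠ b) {y ν : G} (hy : y ∈ U a b) (hν : ν ∈ KK ε)
    (hq : ν ∈ Q a x) : VLab ε U (cq y ν) b x := by
  have hyK := F.UK hab hy
  -- `b' = y^w ∈ U_xb`
  obtain ⟨y', hy'⟩ : ∃ y', y' = cj (w a x) y := ⟨_, rfl⟩
  have h1 : y' ∈ U x b := by
    rw [hy']
    exact F.w1 hxa.symm hab.symm hxb.symm hy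
  have h2 : y * y' ∈ W a x := by
    rw [hy']
    exact F.uuw hxa.symm hab hy
  have h3 := F.QW hxa.symm ν hq _ h2
  -- `[y', ν] = [y, ν]` up to `r`
  have hy'K := F.UK hxb h1
  have e1 : cq y' ν = cq y ν ∨ cq y' ν = cq y ν * rr ε a x := by
    have e4 : cm ν (y * y') = 1 ∨ cm ν (y * y') = rr ε a x := h3
    -- `(y y') ν (y y')⁻¹ = ν c`
    obtain ⟨e, he⟩ : ∃ e, e = y * y' := ⟨_, rfl⟩
    rw [← he] at e4
    have e5 : y' = y * e := by rw [he, ← mul_assoc, F.Usq hab y hy, one_mul]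
    have e6 : e * ν * e⁻¹ = ν ∨ e * ν * e⁻¹ = ν * rr ε a x := by
      rcases e4 with h | h
      · left
        have := cm_one_iff.1 h
        rw [← this, mul_inv_cancel_right]
      · right
        have h5 : e * ν * e⁻¹ = (cm ν e)⁻¹ * ν := by unfold cm; group
        rw [h5, h, F.r_inv, Fr.Kr hν]
    unfold cq
    rcases e6 with h | h
    · left
      calc y' * ν * y'⁻¹ * ν⁻¹ = y * (e * ν * e⁻¹) * y⁻¹ * ν⁻¹ := by rw [e5]; group
        _ = _ := by rw [h]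
    · right
      have h5 : rr ε a x * (y⁻¹ * ν⁻¹) = y⁻¹ * ν⁻¹ * rr ε a x :=
        (Fr.Kr (mul_mem (inv_mem hyK) (inv_mem hν)) a x).symm
      calc y' * ν * y'⁻¹ * ν⁻¹ = y * (e * ν * e⁻¹) * y⁻¹ * ν⁻¹ := by rw [e5]; group
        _ = y * ν * (rr ε a x * (y⁻¹ * ν⁻¹)) := by rw [h]; group
        _ = _ := by rw [h5]; group
  -- `[y', ν] ∈ U_xb`
  have h5 : cq y' ν ∈ U x b := by
    unfold cq
    have e7 : y' * ν * y'⁻¹ * ν⁻¹ = y' * cj ν y'⁻¹ := by unfold cj; group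
    rw [e7]
    exact mul_mem h1 (F.KU hxb hν (inv_mem h1))
  rcases e1 with h | h
  · refine ⟨0, Or.inr ?_⟩
    rw [F.zero, mul_one, F.Usym, ← h]
    exact h5
  · refine ⟨Pi.single a 1 + Pi.single x 1, Or.inr ?_⟩
    rw [← F.rr_eq, F.Usym, ← h]
    exact h5

/-- `g ∈ U_ij V` for all `i`, `j ≠ o` implies `g ∈ V` -/
theorem mem_of_vlab (hC : ThC ε U) {g : G} (hg : g ∈ KK ε) {o : Fin n} (hio : i ≠ o) (hij : i ≠ j) (hjo : j ≠ o)
    (h : ∀ x, x ≠ o → VLab ε U g i x) : ∃ f, g = ε f := by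
  classical
  choose f hf using h
  -- the common translation
  let s : Fin n → ZMod 2 := fun x => if hx : x = o then 0 else if x = i then 0 else f x hx i + f x hx x
  have hs : ∀ x, x ≠ o → Lab U (g * ε s) i x := by
    intro x hx
    rcases eq_or_ne i x with rfl | hix
    · exact Or.inl rfl
    have e : s = f x hx + (f x hx + s) := by
      have h2 : f x hx + f x hx = 0 := add_self _
      rw [← add_assoc, h2, zero_add]
    rw [e, F.add, ← mul_assoc]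
    refine Fr.lab_mul (hf x hx) ((F.lab_e _).2 ?_)
    have hsi : s i = 0 := by
      simp only [s, hio, dite_false, if_true]
    have hsx : s x = f x hx i + f x hx x := by
      simp only [s, hx, dite_false, if_neg hix.symm]
    rw [Pi.add_apply, Pi.add_apply, hsi, hsx]
    have key : ∀ a b : ZMod 2, a + 0 = b + (a + b) := by decide
    exact key _ _
  have h1 := F.two_block hC (c := Pi.single o 1) (s := g * ε s) (mul_mem hg (F.eK s)) hij
    (by rw [Pi.single_eq_of_ne hio, Pi.single_eq_of_ne hjo]) ?_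
  · rcases h1 with h1 | h1
    · exact ⟨s, by rw [mul_eq_one_iff_eq_inv.1 h1, F.einv]⟩
    · refine ⟨Pi.single o 1 + s, ?_⟩
      rw [F.add, ← h1, mul_assoc, F.esq, mul_one]
  · intro a b hab
    by_cases ha : a = o
    · by_cases hb : b = o
      · exact Or.inl (ha.trans hb.symm)
      · rw [ha, Pi.single_eq_same, Pi.single_eq_of_ne hb] at hab
        exact absurd hab one_ne_zero
    · by_cases hb : b = o
      · rw [hb, Pi.single_eq_same, Pi.single_eq_of_ne ha] at hab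
        exact absurd hab.symm one_ne_zero
      · exact F.lab_trans (F.lab_symm (hs a ha)) (hs b hb)

/-- **(6)(ii)** over the frame -/
theorem frame_E_le_V (hC : ThC ε U) {o : Fin n} {O : Set (Fin n)} (hO : o ∉ O) {ν : G} (hν : ν ∈ KK ε)
    (hQ : ∀ i j, i ≠ j → i ≠ o → j ≠ o → Fr.Cen U ν i j → ν ∈ Q i j) {E : Set G} {C : Subgroup G}
    (hCV : ∀ c ∈ C, ∃ f, c = ε f)
    (hE : ∀ a b, a ∈ O → b ∉ O → b ≠ o → (∀ y ∈ U a b, y * ν = ν * y) ∨
      ((∀ y ∈ U a b, cq y ν ∈ E) ∧ ∀ g ∈ E, ∃ y ∈ U a b, g⁻¹ * cq y ν ∈ C))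
    (hne : ∃ a b, a ∈ O ∧ b ∉ O ∧ b ≠ o ∧ ∃ y ∈ U a b, y * ν ≠ ν * y) : ∀ g ∈ E, ∃ f, g = ε f := by
  intro g hg
  obtain ⟨a, b, haO, hbO, hbo, y₀, hy₀, hyν⟩ := hne
  have hao : a ≠ o := fun e => hO (e ▸ haO)
  have hab : a ≠ b := fun e => hbO (e ▸ haO)
  -- `cq y ν = g c`
  have hcov : ∀ a b, a ∈ O → b ∉ O → b ≠ o → ¬ (∀ y ∈ U a b, y * ν = ν * y) →
      ∃ y ∈ U a b, ∃ f, cq y ν = g * ε f := by
    intro a b h1 h2 h3 h4
    obtain ⟨y, hy, hc⟩ := ((hE a b h1 h2 h3).resolve_left h4).2 g hg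
    obtain ⟨f, hf⟩ := hCV _ hc
    exact ⟨y, hy, f, by rw [← hf, mul_inv_cancel_left]⟩
  have hcU : ∀ {a b}, a ≠ b → ∀ y ∈ U a b, cq y ν ∈ U a b := by
    intro a b hab y hy
    have e7 : cq y ν = y * cj ν y⁻¹ := by unfold cq cj; group
    rw [e7]
    exact mul_mem hy (F.KU hab hν (inv_mem hy))
  have hcov' : ∀ a b, a ∈ O → b ∉ O → b ≠ o → ¬ (∀ y ∈ U a b, y * ν = ν * y) → VLab ε U g a b := by
    intro a b h1 h2 h3 h4
    have hab : a ≠ b := fun e => h2 (e ▸ h1)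
    obtain ⟨y, hy, f, hf⟩ := hcov a b h1 h2 h3 h4
    exact ⟨f, Or.inr (hf ▸ hcU hab y hy)⟩
  have hnab : ¬ (∀ y ∈ U a b, y * ν = ν * y) := fun h => hyν (h y₀ hy₀)
  obtain ⟨y, hy, f, hf⟩ := hcov a b haO hbO hbo hnab
  have hgab := hcov' a b haO hbO hbo hnab
  have hgK : g ∈ KK ε := by
    have h1 : g = cq y ν * ε f := by rw [hf, mul_assoc, F.esq, mul_one]
    rw [h1]
    exact mul_mem (F.UK hab (hcU hab y hy)) (F.eK f)
  -- from `cq y ν` to `g`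
  have hback : ∀ {i j}, VLab ε U (cq y ν) i j → VLab ε U g i j := by
    rintro i j ⟨f', hf'⟩
    refine ⟨f + f', ?_⟩
    rw [F.add, ← mul_assoc, ← hf]
    exact hf'
  have hcen : ∀ {i j}, (∀ y ∈ U i j, y * ν = ν * y) → Fr.Cen U ν i j := fun h y hy => (h y hy).symm
  refine mem_of_vlab F hC hgK (i := a) (j := b) (o := o) hao hab hbo ?_
  intro x hxo
  by_cases hxO : x ∈ O
  · -- `x ∈ O`
    rcases eq_or_ne x a with rfl | hxa
    · exact ⟨0, Or.inl rfl⟩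
    have hxb : x ≠ b := fun e => hbO (e ▸ hxO)
    by_cases hc : ∀ y ∈ U x b, y * ν = ν * y
    · have hq := hQ b x hxb.symm hbo hxo (F.cen_symm (hcen hc))
      exact hback (p_one F hab.symm hxb hxa (F.Usym a b ▸ hy) hν hq)
    · exact vlab_trans F hgab (vlab_symm F (hcov' x b hxO hbO hbo hc))
  · -- `x ∉ O`
    rcases eq_or_ne x b with rfl | hxb
    · exact hgab
    have hxa : x ≠ a := fun e => hxO (e ▸ haO)
    by_cases hc : ∀ y ∈ U a x, y * ν = ν * y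
    · have hq := hQ a x hxa.symm hao hxo (hcen hc)
      exact vlab_trans F hgab (hback (p_one F hab hxa hxb hy hν hq))
    · exact hcov' a x haO hxO hxo hc

end Frame

/-- **(6)(ii)** over `Engine.Hyp` -/
theorem hyp_E_le_V [Finite G] {V P : Subgroup G} {ε : (Fin n → ZMod 2) → G} (h : Hyp V P ε) {o : Fin n}
    {O : Set (Fin n)} (hO : o ∉ O) {ν : G} (hν : ν ∈ KK ε)
    (hQ : ∀ i j, i ≠ j → i ≠ o → j ≠ o → Fr.Cen (UU ε) ν i j → ν ∈ o2 (NN ε i j)) {E : Set G} {C : Subgroup G}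
    (hCV : ∀ c ∈ C, ∃ f, c = ε f)
    (hE : ∀ a b, a ∈ O → b ∉ O → b ≠ o → (∀ y ∈ UU ε a b, y * ν = ν * y) ∨
      ((∀ y ∈ UU ε a b, cq y ν ∈ E) ∧ ∀ g ∈ E, ∃ y ∈ UU ε a b, g⁻¹ * cq y ν ∈ C))
    (hne : ∃ a b, a ∈ O ∧ b ∉ O ∧ b ≠ o ∧ ∃ y ∈ UU ε a b, y * ν ≠ ν * y) : ∀ g ∈ E, ∃ f, g = ε f := by
  obtain ⟨w, F⟩ := h.exists_fr
  exact frame_E_le_V F h.thC hO hν hQ hCV hE hne

end Cfsg.Agent.Omega.NSix.Cen
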