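import Cfsg.Agent.Omega.FFThmM

/-!
# N6, THEOREM V (bb #19783): a minimal parabolic acting on a quotient `W / C`: the interface

`R` is a minimal parabolic over its Sylow 2-subgroup `T`, `C ≤ W` subgroups, `W` elementary abelian and normalised by `R`,
`C` centralised by `R`, `W / C` generated by the `R`-conjugates of the fixed points of `T`, some fixed point is moved.

* `QDat`, `TrQ` (trivial action on `W / C`), `Ex` (exactness), `cq a w = a w a⁻¹ w⁻¹`;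
* `NoOverQ` : no over-offenders on `W / C`;
* `OneQ` : `W / C` modulo the fixed points of `O²(R)` is one natural `SL₂(q)`-module, `q ≥ 4`;
* `ConclQ` : what is used of the FF theorem.
-/

set_option autoImplicit false

namespace Cfsg.Agent.Omega.NSix.Cen

open Subgroup Cfsg Cfsg.Agent.ZN.ChoiceSit
open Cfsg.Agent.ZN (zc zl o2)
open Cfsg.Agent.MinSimple.MinParabolic (IsMinPar)
open Cfsg.Agent.Omega.FFThm (OffM)

universe u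

variable {G : Type u} [Group G]

/-- the commutator -/
def cq (a w : G) : G := a * w * a⁻¹ * w⁻¹

/-- `R` acts on `W / C` -/
structure QDat (T R W C : Subgroup G) : Prop where
  syl : Syl T R
  par : IsMinPar T R
  nW : R ≤ normalizer (W : Set G)
  CW : C ≤ W
  cen : ∀ g ∈ R, ∀ c ∈ C, g * c = c * g
  ab : ∀ v ∈ W, ∀ w ∈ W, v * w = w * v
  sq : ∀ w ∈ W, w * w = 1
  mv : ∃ v ∈ W, (∀ t ∈ T, cq t v ∈ C) ∧ ∃ g ∈ R, cq g v ∉ C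
  gen : ∀ K : Subgroup G, C ≤ K → (∀ v ∈ W, (∀ t ∈ T, cq t v ∈ C) → ∀ g ∈ R, g * v * g⁻¹ ∈ K) → W ≤ K

/-- `a` acts trivially on `W / C` -/
def TrQ (W C : Subgroup G) (a : G) : Prop := ∀ w ∈ W, cq a w ∈ C

/-- `C_A(W/C) = C_A(W)` and `C_{W/C}(A) = C_W(A)/C` -/
def Ex (W C A : Subgroup G) : Prop :=
  (∀ a ∈ A, TrQ W C a → a ∈ centralizer (W : Set G)) ∧
    ∀ w ∈ W, (∀ a ∈ A, cq a w ∈ C) → ∀ a ∈ A, a * w = w * a

/-- no over-offender of `R` on `W / C` -/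
def NoOverQ (R W C : Subgroup G) : Prop :=
  ∀ A : Subgroup G, A ≤ R → (∀ a ∈ A, TrQ W C (a * a)) → (∀ a ∈ A, ∀ b ∈ A, TrQ W C (a * b * a⁻¹ * b⁻¹)) →
    ∀ KA CW : Subgroup G, (∀ a, a ∈ KA ↔ a ∈ A ∧ TrQ W C a) → (∀ w, w ∈ CW ↔ w ∈ W ∧ ∀ a ∈ A, cq a w ∈ C) →
      KA.relIndex A ≤ CW.relIndex W

/-- one natural module, `q ≥ 4`: `D / C = C_{W/C}(O²(R))`, `l / D` the line of `T` in `W / D` -/
structure OneQ (T R W C : Subgroup G) (𝒜 : Set (Subgroup G)) (l D : Subgroup G) : Prop where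
  CD : C ≤ D
  Dl : D ≤ l
  lW : l ≤ W
  D_iff : ∀ w ∈ W, w ∈ D ↔ ∀ h ∈ R, Odd (orderOf h) → cq h w ∈ C
  nD : ∀ g ∈ R, ∀ w ∈ D, g * w * g⁻¹ ∈ D
  nl : ∀ t ∈ T, ∀ w ∈ l, t * w * t⁻¹ ∈ l
  /-- a nontrivial member is a full root group -/
  all : ∀ A ∈ 𝒜, ¬ A ≤ centralizer (W : Set G) → ∀ w ∈ W, w ∉ l → ∀ x ∈ l, ∃ a ∈ A, x⁻¹ * cq a w ∈ D
  /-- the fixed points of a nontrivial member in `W / D` -/
  fix : ∀ A ∈ 𝒜, ¬ A ≤ centralizer (W : Set G) → ∀ w ∈ W, w ∈ l ↔ ∀ a ∈ A, cq a w ∈ D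
  /-- a nontrivial element covers the line -/
  cover : ∀ A ∈ 𝒜, ∀ a ∈ A, ¬ TrQ W C a → ∀ x ∈ l, ∃ w ∈ W, x⁻¹ * cq a w ∈ D
  /-- the elements of `T` which are trivial on the line act like elements of every nontrivial member -/
  root : ∀ t ∈ T, (∀ w ∈ l, cq t w ∈ D) → ∀ A ∈ 𝒜, ¬ A ≤ centralizer (W : Set G) →
    ∃ a ∈ A, ∀ w ∈ W, (a * w * a⁻¹)⁻¹ * (t * w * t⁻¹) ∈ C
  /-- an element of `T` with `|[W / C, t]| ≤ 2` is trivial on the line -/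
  two : ∀ t ∈ T, (∃ x, ∀ w ∈ W, cq t w ∈ C ∨ cq t w * x ∈ C) → ∀ w ∈ l, cq t w ∈ D
  /-- an element of the Borel subgroup without fixed points on the line -/
  frat : ∃ h ∈ R, (∀ t ∈ T, (∀ w ∈ l, cq t w ∈ D) → h * t * h⁻¹ ∈ T ∧ h⁻¹ * t * h ∈ T) ∧
    ∀ w ∈ l, cq h w ∈ D → w ∈ D

/-- the conclusion -/
def ConclQ (T R W C : Subgroup G) (𝒜 : Set (Subgroup G)) : Prop :=
  ∃ ν ∈ W, ∃ E : Subgroup G, C ≤ E ∧ E ≤ W ∧
    (∀ A ∈ 𝒜, (∀ a ∈ A, a * ν = ν * a) ∨ (∀ a ∈ A, cq a ν ∈ E) ∧ ∀ x ∈ E, ∃ a ∈ A, x⁻¹ * cq a ν ∈ C) ∧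
    (∃ A ∈ 𝒜, ∃ a ∈ A, a * ν ≠ ν * a) ∧
    (∀ x ∈ E, (∀ g ∈ R, cq g x ∈ C) → x ∈ C) ∧
    ((∃ g, ∀ x ∈ E, x ∈ C ∨ x * g ∈ C) ∨
      (∀ x ∈ E, x ∉ C → ∀ K : Subgroup G, T ≤ K → (∀ h ∈ R, Odd (orderOf h) → h * x = x * h → h ∈ K) → R ≤ K) ∨
      ∃ l D : Subgroup G, OneQ T R W C 𝒜 l D)

/-- a model of the action of `R` on `W / C` inside a group `G'` with `zl T' H' = W / C` (`G' = (W/C) ⋊ (R/C_R(W/C))`) -/
structure Model (T R W C : Subgroup G) {G' : Type u} [Group G'] (T' H' : Subgroup G') (φ : W →* G') (π : R →* G') :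
    Prop where
  syl : Syl T' H'
  par : IsMinPar T' H'
  char2 : H' ⊓ centralizer (o2 H' : Set G') ≤ o2 H'
  range : φ.range = zl T' H'
  ker : ∀ w : W, φ w = 1 ↔ (w : G) ∈ C
  act : ∀ (g : R) (w : W) (hw : (g : G) * w * (g : G)⁻¹ ∈ W), π g * φ w * (π g)⁻¹ = φ ⟨(g : G) * w * (g : G)⁻¹, hw⟩
  piH : ∀ g : R, π g ∈ H'
  piT : ∀ g : R, (g : G) ∈ T → π g ∈ T'
  Hpi : ∀ h ∈ H', ∃ g : R, ∃ v ∈ zl T' H', h = v * π g
  Tpi : ∀ h ∈ T', ∃ g : R, (g : G) ∈ T ∧ ∃ v ∈ zl T' H', h = v * π g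

end Cfsg.Agent.Omega.NSix.Cen
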