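import Cfsg.Agent.Lib.SL2Mat
import Mathlib

/-!
# `SL₂(q)`, `q ≥ 4` even, is generated by its elements of odd order
-/

set_option autoImplicit false

namespace Cfsg.Agent.Omega.NSix.Cen

open Cfsg.Agent.Lib.SL2Mat

variable {F : Type*} [Field F]

theorem dg_pow (b : F) (hb : b ≠ 0) (n : ℕ) : (dg b hb) ^ n = dg (b ^ n) (pow_ne_zero n hb) := by
  induction n with
  | zero => refine ext_ent ?_ ?_ ?_ ?_ <;> simp
  | succ n ih =>
    rw [pow_succ, ih]
    refine ext_ent ?_ ?_ ?_ ?_ <;> simp [ent_mul, pow_succ, mul_comm]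

theorem dg_lo (b c : F) (hb : b ≠ 0) : dg b hb * lo c = lo (c / b ^ 2) * dg b hb := by
  refine ext_ent ?_ ?_ ?_ ?_ <;> simp [ent_mul]
  field_simp

theorem exists_ne_zero_one [Finite F] (h4 : 4 ≤ Nat.card F) : ∃ x : F, x ≠ 0 ∧ x ≠ 1 := by
  classical
  have := Fintype.ofFinite F
  rw [Nat.card_eq_fintype_card] at h4
  by_contra hcon
  push Not at hcon
  have h1 : (Finset.univ : Finset F) ⊆ {0, 1} := fun x _ => by
    by_cases hx : x = 0
    · simp [hx]
    · simp [hcon x hx]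
  have h2 := Finset.card_le_card h1
  rw [Finset.card_univ] at h2
  have h3 : ({0, 1} : Finset F).card ≤ 2 := Finset.card_le_two
  omega

/-- **`SL₂(q)`, `q ≥ 4` even, is generated by its elements of odd order** -/
theorem sl2_odd [Finite F] [CharP F 2] (h4 : 4 ≤ Nat.card F) (K : Subgroup (Matrix.SpecialLinearGroup (Fin 2) F))
    (hK : ∀ (x : Matrix.SpecialLinearGroup (Fin 2) F) (n : ℕ), Odd n → x ^ n = 1 → x ∈ K) : K = ⊤ := by
  have := Fintype.ofFinite F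
  obtain ⟨a, ha0, ha1⟩ := exists_ne_zero_one h4
  obtain ⟨m, -, hm⟩ := FiniteField.card F 2
  have hodd : Odd (Fintype.card F - 1) := by
    rw [hm]
    refine Nat.Even.sub_odd Nat.one_le_two_pow ?_ odd_one
    exact (Nat.even_pow.2 ⟨even_two, m.pos.ne'⟩)
  have hd : (dg a ha0) ^ (Fintype.card F - 1) = 1 := by
    rw [dg_pow]
    refine ext_ent ?_ ?_ ?_ ?_ <;> simp [FiniteField.pow_card_sub_one_eq_one a ha0]
  have hdK : dg a ha0 ∈ K := hK _ _ hodd hd
  have hsq : (1 : F) - a ^ 2 ≠ 0 := by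
    intro h
    have h1 : (a - 1) ^ 2 = 0 := by
      have h2 : (2 : F) = 0 := CharTwo.two_eq_zero
      linear_combination -h + (1 - a) * h2
    exact ha1 (sub_eq_zero.1 (pow_eq_zero_iff (two_ne_zero)|>.1 h1))
  have hcj : ∀ x : Matrix.SpecialLinearGroup (Fin 2) F, x * dg a ha0 * x⁻¹ ∈ K := fun x =>
    hK _ _ hodd (by rw [conj_pow, hd]; group)
  have hup : ∀ b : F, up b ∈ K := by
    intro b
    have h1 := mul_mem (hcj (up (b / (1 - a ^ 2)))) (inv_mem hdK)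
    have h2 : up (b / (1 - a ^ 2)) * dg a ha0 * (up (b / (1 - a ^ 2)))⁻¹ * (dg a ha0)⁻¹ = up b := by
      have h3 : dg a ha0 * up (-(b / (1 - a ^ 2))) * (dg a ha0)⁻¹ = up (a ^ 2 * -(b / (1 - a ^ 2))) := by
        rw [dg_up]; group
      calc up (b / (1 - a ^ 2)) * dg a ha0 * (up (b / (1 - a ^ 2)))⁻¹ * (dg a ha0)⁻¹
          = up (b / (1 - a ^ 2)) * (dg a ha0 * up (-(b / (1 - a ^ 2))) * (dg a ha0)⁻¹) := by rw [up_inv]; group
        _ = up b := by
          rw [h3, up_mul]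
          congr 1
          field_simp
          ring
    rwa [h2] at h1
  have hlo : ∀ b : F, lo b ∈ K := by
    intro b
    have hsq' : (a ^ 2 : F) - 1 ≠ 0 := fun h => hsq (by linear_combination -h)
    have h1 := mul_mem (hcj (lo (b * a ^ 2 / (a ^ 2 - 1)))) (inv_mem hdK)
    have h2 : lo (b * a ^ 2 / (a ^ 2 - 1)) * dg a ha0 * (lo (b * a ^ 2 / (a ^ 2 - 1)))⁻¹ * (dg a ha0)⁻¹ = lo b := by
      have h3 : dg a ha0 * lo (-(b * a ^ 2 / (a ^ 2 - 1))) * (dg a ha0)⁻¹ =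
          lo (-(b * a ^ 2 / (a ^ 2 - 1)) / a ^ 2) := by
        rw [dg_lo]; group
      calc lo (b * a ^ 2 / (a ^ 2 - 1)) * dg a ha0 * (lo (b * a ^ 2 / (a ^ 2 - 1)))⁻¹ * (dg a ha0)⁻¹
          = lo (b * a ^ 2 / (a ^ 2 - 1)) * (dg a ha0 * lo (-(b * a ^ 2 / (a ^ 2 - 1))) * (dg a ha0)⁻¹) := by
            rw [lo_inv]; group
        _ = lo b := by
          rw [h3, lo_mul]
          congr 1
          field_simp
          ring
    rwa [h2] at h1
  rw [eq_top_iff]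
  intro x _
  obtain ⟨a, b, c, d, rfl⟩ := exists_up_lo x
  exact mul_mem (mul_mem (mul_mem (hup a) (hlo b)) (hup c)) (hlo d)

end Cfsg.Agent.Omega.NSix.Cen
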