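import Cfsg.Agent.Omega.NSix.Cen.MFacts
import Cfsg.Agent.Omega.NSix.Cen.SLOdd

/-!
# N6, THEOREM V (bb #19783): `k ≥ 2` natural modules, `q ≥ 4`

`Model.two_le` : `x ∈ W`, `φ x` in the `i`-th summand: a subgroup which contains `T` and the elements of odd order of
`C_R(x)` contains `R`.
-/

set_option autoImplicit false

namespace Cfsg.Agent.Omega.NSix.Cen

open Subgroup Cfsg Cfsg.Agent.ZN.ChoiceBase Cfsg.Agent.ZN.ChoiceSit
open Cfsg.Agent.ZN (zc zl o2)
open Cfsg.Agent.MinSimple.MinParabolic (IsMinPar)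
open Cfsg.Agent.MinSimple.VModule (le_normalizer_zl)
open Cfsg.Agent.Omega.FFThm
open Cfsg.Agent.Omega.FrameFF (cv)
open Cfsg.Agent.Omega.HOne (cv_le le_normalizer_cv conj_mem_zl conj_mem_cv)
open Cfsg.Agent.Omega.NO3S.ThmB
open Cfsg.Agent.Lib.SL2Mat
open Cfsg.Agent.Omega.NatPair (ap)

universe u

variable {G : Type u} [Group G] {T R W C : Subgroup G} {G' : Type u} [Group G'] {T' H' : Subgroup G'} {φ : W →* G'}
  {π : R →* G'}

theorem ap_fix_eq_one {F : Type} [Field F] {A : Matrix.SpecialLinearGroup (Fin 2) F}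
    (h : ∀ x : Fin 2 → F, ap A x = x) : A = 1 := by
  have h1 := h ![1, 0]
  have h2 := h ![0, 1]
  have a1 := congrFun h1 0
  have a2 := congrFun h1 1
  have a3 := congrFun h2 0
  have a4 := congrFun h2 1
  rw [NatPair.ap_zero'] at a1 a3
  rw [NatPair.ap_one'] at a2 a4
  simp only [Matrix.cons_val_zero, Matrix.cons_val_one, mul_one, mul_zero, add_zero, zero_add] at a1 a2 a3 a4
  exact ext_ent a1 a3 a2 a4

/-- an element which acts like an element of `L` -/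
def actG (π : R →* G') (hH : ∀ g : R, π g ∈ H') (V : Subgroup G') (hV : H' ≤ normalizer (V : Set G'))
    (L : Subgroup R) : Subgroup G' where
  carrier := {h | ∃ g ∈ L, ∀ v ∈ V, h * v * h⁻¹ = π g * v * (π g)⁻¹}
  mul_mem' := by
    rintro a b ⟨g, hg, ha⟩ ⟨p, hp, hb⟩
    refine ⟨g * p, mul_mem hg hp, fun v hv => ?_⟩
    have h1 : π p * v * (π p)⁻¹ ∈ V := (mem_normalizer_iff.1 (hV (hH p)) v).1 hv
    calc a * b * v * (a * b)⁻¹ = a * (b * v * b⁻¹) * a⁻¹ := by group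
      _ = π g * (π p * v * (π p)⁻¹) * (π g)⁻¹ := by rw [hb v hv, ha _ h1]
      _ = π (g * p) * v * (π (g * p))⁻¹ := by rw [map_mul]; group
  one_mem' := ⟨1, one_mem _, fun v _ => by rw [map_one]⟩
  inv_mem' := by
    rintro a ⟨g, hg, ha⟩
    refine ⟨g⁻¹, inv_mem hg, fun v hv => ?_⟩
    have h1 : π g⁻¹ * v * (π g⁻¹)⁻¹ ∈ V := (mem_normalizer_iff.1 (hV (hH g⁻¹)) v).1 hv
    have h2 := ha _ h1
    have h3 : π g * (π g⁻¹ * v * (π g⁻¹)⁻¹) * (π g)⁻¹ = v := by rw [map_inv]; group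
    rw [h3] at h2
    calc a⁻¹ * v * a⁻¹⁻¹ = a⁻¹ * (a * (π g⁻¹ * v * (π g⁻¹)⁻¹) * a⁻¹) * a := by rw [h2]; group
      _ = _ := by group

section main

variable {F : Type} [Field F] [CharP F 2] {k : ℕ}

omit [CharP F 2] in
/-- the same action -/
theorem acts_congr {V D' : Subgroup G'} {N : NatKM F T' H' V D' k} (hDV : D' ≤ V) {g h : G'}
    {A : Fin k → Matrix.SpecialLinearGroup (Fin 2) F} (hA : ActsSL N.e V D' g A)
    (e : ∀ v ∈ V, h * v * h⁻¹ = g * v * g⁻¹) : ActsSL N.e V D' h A := by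
  refine ⟨fun v hv i => by rw [e v hv, hA.1 v hv i], fun d hd => ?_⟩
  have h1 := e d (hDV hd)
  rw [mul_inv_eq_iff_eq_mul.2 (hA.2 d hd)] at h1
  exact mul_inv_eq_iff_eq_mul.1 h1

/-- **`k ≥ 2`, `q ≥ 4`** -/
theorem Model.two_le [Finite G] [Finite G'] [Finite F] (M : Model T R W C T' H' φ π) (D : QDat T R W C)
    (N : NatKM F T' H' (zl T' H') (cv T' H') k) (h4 : 4 ≤ Nat.card F) {i j : Fin k} (hij : j ≠ i) {x : W}
    (hx : ∀ l, l ≠ i → N.e (φ x) l = 0) {K : Subgroup G} (hTK : T ≤ K)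
    (hK : ∀ h ∈ R, Odd (orderOf h) → h * (x : G) = x * h → h ∈ K) : R ≤ K := by
  have hN := nb_of M.syl M.char2 N
  have hDV : cv T' H' ≤ zl T' H' := cv_le T' H'
  set NR : Subgroup R := (centralizer (zl T' H' : Set G')).comap π with hNR
  set L : Subgroup R := K.subgroupOf R ⊔ NR with hL
  have hKL : ∀ g : R, (g : G) ∈ K → g ∈ L := fun g hg => (le_sup_left : K.subgroupOf R ≤ L) hg
  have hNL : ∀ g : R, π g ∈ centralizer (zl T' H' : Set G') → g ∈ L := fun g hg =>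
    (le_sup_right : NR ≤ L) hg
  -- elements with the same action
  have hsame : ∀ g p : R, p ∈ L → (∀ v ∈ zl T' H', π g * v * (π g)⁻¹ = π p * v * (π p)⁻¹) → g ∈ L := by
    intro g p hp he
    have h1 : p⁻¹ * g ∈ L := by
      refine hNL _ (mem_centralizer_iff.2 fun v hv => ?_)
      have h2 := he v hv
      have h3 : π (p⁻¹ * g) * v * (π (p⁻¹ * g))⁻¹ = v := by
        rw [map_mul, map_inv]
        calc (π p)⁻¹ * π g * v * ((π p)⁻¹ * π g)⁻¹ = (π p)⁻¹ * (π g * v * (π g)⁻¹) * π p := by group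
          _ = v := by rw [h2]; group
      exact (mul_inv_eq_iff_eq_mul.1 h3).symm
    have h2 := mul_mem hp h1
    rwa [mul_inv_cancel_left] at h2
  set K' : Subgroup G' := actG π M.piH (zl T' H') (le_normalizer_zl T' H') L with hK'
  -- the families which are induced by `L`
  let 𝒮 : Subgroup (Fin k → Matrix.SpecialLinearGroup (Fin 2) F) :=
    { carrier := {A | ∃ g ∈ L, ActsSL N.e (zl T' H') (cv T' H') (π g) A}
      mul_mem' := by
        rintro A B ⟨g, hg, hA⟩ ⟨p, hp, hB⟩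
        refine ⟨g * p, mul_mem hg hp, ?_⟩
        rw [map_mul]
        exact hN.acts_mul (M.piH p) hA hB
      one_mem' := ⟨1, one_mem _, by rw [map_one]; exact Nb.acts_one⟩
      inv_mem' := by
        rintro A ⟨g, hg, hA⟩
        refine ⟨g⁻¹, inv_mem hg, ?_⟩
        rw [map_inv]
        exact hN.acts_inv (M.piH g) hA }
  have hSj : ∀ B : Matrix.SpecialLinearGroup (Fin 2) F, sg j B ∈ 𝒮 := by
    have h1 : 𝒮.comap (MonoidHom.mulSingle (fun _ : Fin k => Matrix.SpecialLinearGroup (Fin 2) F) j) = ⊤ := by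
      refine sl2_odd h4 _ fun B n hn hB => ?_
      change sg j B ∈ 𝒮
      have hBn : (sg j B) ^ n = 1 := by
        funext l
        by_cases hl : l = j
        · subst hl
          rw [Pi.pow_apply, sg_self, hB]; rfl
        · rw [Pi.pow_apply, sg_ne hl, one_pow]; rfl
      obtain ⟨g, hgo, hgA⟩ := M.oddLift N hn hBn
      refine ⟨g, hKL g (hK g g.2 hgo (D.odd_comm g.2 hgo ?_)), hgA⟩
      rw [M.cq_iff D g x]
      exact hN.dir (M.piH g) hgA (j := i) (sg_ne (Ne.symm hij) B) (M.mem x) hx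
    intro B
    have h2 : B ∈ 𝒮.comap (MonoidHom.mulSingle (fun _ : Fin k => Matrix.SpecialLinearGroup (Fin 2) F) j) := by
      rw [h1]; exact mem_top _
    exact h2
  have hSall : ∀ (l : Fin k) (B : Matrix.SpecialLinearGroup (Fin 2) F), sg l B ∈ 𝒮 := by
    intro l B
    obtain ⟨t, ht, htr⟩ := N.trans l j
    obtain ⟨gt, hgt, v₀, hv₀, et⟩ := M.Tpi t ht
    obtain ⟨g0, hg0⟩ := M.lift N (sg l B)
    -- `π gt` acts like `t`
    have htt : ∀ v ∈ zl T' H', t * v * t⁻¹ = π gt * v * (π gt)⁻¹ := by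
      intro v hv
      have h1 : π gt * v * (π gt)⁻¹ ∈ zl T' H' := conj_mem_zl (M.piH gt) hv
      have h2 := hN.cm hv₀ h1
      calc t * v * t⁻¹ = v₀ * (π gt * v * (π gt)⁻¹) * v₀⁻¹ := by rw [et]; group
        _ = (π gt * v * (π gt)⁻¹) * v₀ * v₀⁻¹ := by rw [h2]
        _ = _ := by group
    have htr' : ∀ v ∈ zl T' H', N.e (π gt * v * (π gt)⁻¹) j = 0 ↔ N.e v l = 0 := fun v hv => by
      rw [← htt v hv]; exact htr v hv
    obtain ⟨B', hB'⟩ := N.norm (π gt) (M.piH gt) (π g0) (M.piH g0) (sg l B) hg0.1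
    -- only the `j`-th entry
    have hB1 : ∀ r, r ≠ j → B' r = 1 := by
      intro r hr
      refine ap_fix_eq_one fun y => ?_
      obtain ⟨v, hv, hvr, hvl⟩ := Nb.exists_single N r y
      have hw : (π gt)⁻¹ * v * π gt ∈ zl T' H' := by
        have := conj_mem_zl (S := T') (inv_mem (M.piH gt)) hv
        rwa [inv_inv] at this
      set w := (π gt)⁻¹ * v * π gt with hw'
      have hvw : π gt * w * (π gt)⁻¹ = v := by rw [hw']; group
      have hwl : N.e w l = 0 := by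
        rw [← htr' w hw, hvw]
        exact hvl j (Ne.symm hr)
      have h1 : N.e (π g0 * w * (π g0)⁻¹) = N.e w := by
        funext s
        rw [hg0.1 w hw s]
        by_cases hs : s = l
        · rw [hs, hwl, ap_zr]
        · rw [sg_ne hs, NatPair.ap_one]
      have h0w : π g0 * w * (π g0)⁻¹ ∈ zl T' H' := conj_mem_zl (M.piH g0) hw
      have h2 : π g0 * w * (π g0)⁻¹ * w⁻¹ ∈ cv T' H' := (hN.mem_D h0w hw).2 h1
      have h3 : π gt * (π g0 * w * (π g0)⁻¹ * w⁻¹) * (π gt)⁻¹ ∈ cv T' H' := conj_mem_cv (M.piH gt) h2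
      have h4 : π gt * (π g0 * w * (π g0)⁻¹ * w⁻¹) * (π gt)⁻¹ =
          (π gt * π g0 * (π gt)⁻¹ * v * (π gt * π g0 * (π gt)⁻¹)⁻¹) * v⁻¹ := by rw [hw']; group
      rw [h4] at h3
      have h5 : π gt * π g0 * (π gt)⁻¹ * v * (π gt * π g0 * (π gt)⁻¹)⁻¹ ∈ zl T' H' :=
        conj_mem_zl (mul_mem (mul_mem (M.piH gt) (M.piH g0)) (inv_mem (M.piH gt))) hv
      rw [hN.mem_D h5 hv] at h3
      have h6 := hB' v hv r
      rw [h3, hvr] at h6
      exact h6.symm
    have hB2 : B' = sg j (B' j) := eq_sg hB1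
    obtain ⟨g2, hg2, hg2A⟩ := hSj (B' j)
    have hgtL : gt ∈ L := hKL gt (hTK hgt)
    -- `π gt π g0 (π gt)⁻¹` acts as `B'`
    have hact : ActsSL N.e (zl T' H') (cv T' H') (π gt * π g0 * (π gt)⁻¹) (sg j (B' j)) := by
      refine ⟨fun v hv s => ?_, fun d hd => ?_⟩
      · rw [hB' v hv s, ← hB2]
      · have h1 : (π gt)⁻¹ * d * π gt ∈ cv T' H' := by
          have := conj_mem_cv (S := T') (inv_mem (M.piH gt)) hd
          rwa [inv_inv] at this
        have h2 := hg0.2 _ h1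
        calc π gt * π g0 * (π gt)⁻¹ * d = π gt * (π g0 * ((π gt)⁻¹ * d * π gt)) * (π gt)⁻¹ := by group
          _ = π gt * ((π gt)⁻¹ * d * π gt * π g0) * (π gt)⁻¹ := by rw [h2]
          _ = d * (π gt * π g0 * (π gt)⁻¹) := by group
    have hH : π gt * π g0 * (π gt)⁻¹ ∈ H' := mul_mem (mul_mem (M.piH gt) (M.piH g0)) (inv_mem (M.piH gt))
    refine ⟨gt⁻¹ * g2 * gt, mul_mem (mul_mem (inv_mem hgtL) hg2) hgtL, acts_congr hDV hg0 fun v hv => ?_⟩
    have hv1 : π gt * v * (π gt)⁻¹ ∈ zl T' H' := conj_mem_zl (M.piH gt) hv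
    have h1 := hN.same (M.piH g2) hH hg2A hact hv1
    rw [map_mul, map_mul, map_inv]
    calc (π gt)⁻¹ * π g2 * π gt * v * ((π gt)⁻¹ * π g2 * π gt)⁻¹
        = (π gt)⁻¹ * (π g2 * (π gt * v * (π gt)⁻¹) * (π g2)⁻¹) * π gt := by group
      _ = π g0 * v * (π g0)⁻¹ := by rw [h1]; group
  have hStop : ∀ A : Fin k → Matrix.SpecialLinearGroup (Fin 2) F, A ∈ 𝒮 := fun A =>
    Subgroup.pi_mem_of_mulSingle_mem A fun l => hSall l (A l)
  -- `K' = H'`
  have hHK : H' ≤ K' := by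
    refine N.gen K' (fun t ht => ?_) fun h hh A hA => ?_
    · obtain ⟨gt, hgt, v₀, hv₀, et⟩ := M.Tpi t ht
      refine ⟨gt, hKL gt (hTK hgt), fun v hv => ?_⟩
      have h1 : π gt * v * (π gt)⁻¹ ∈ zl T' H' := conj_mem_zl (M.piH gt) hv
      have h2 := hN.cm hv₀ h1
      calc t * v * t⁻¹ = v₀ * (π gt * v * (π gt)⁻¹) * v₀⁻¹ := by rw [et]; group
        _ = (π gt * v * (π gt)⁻¹) * v₀ * v₀⁻¹ := by rw [h2]
        _ = _ := by group
    · obtain ⟨g, hg, hgA⟩ := hStop A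
      exact ⟨g, hg, fun v hv => hN.same hh (M.piH g) hA hgA hv⟩
  have hLtop : L = ⊤ := by
    rw [eq_top_iff]
    intro g _
    obtain ⟨p, hp, he⟩ := hHK (M.piH g)
    exact hsame g p hp he
  -- the minimal parabolic
  by_contra hRK
  obtain ⟨M₀, hM₀, hM₁⟩ := D.par.exists_max
  have hTR := D.TR
  have h1 : K ⊓ R ≤ M₀ := by
    refine hM₁ _ (le_inf hTK hTR) (lt_of_le_of_ne inf_le_right fun h => hRK ?_)
    rw [← h]
    exact inf_le_left
  obtain ⟨v, hv, hvT, g₁, hg₁, hg₁v⟩ := D.mv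
  set St : Subgroup R := (centralizer ({φ ⟨v, hv⟩} : Set G')).comap π with hSt
  have hmemSt : ∀ g : R, g ∈ St ↔ cq (g : G) v ∈ C := by
    intro g
    rw [hSt, mem_comap, mem_centralizer_singleton_iff, ← M.cq_iff D g ⟨v, hv⟩]
  have h2 : St.map R.subtype ≤ M₀ := by
    refine hM₁ _ (fun t ht => ⟨⟨t, hTR ht⟩, (hmemSt _).2 (hvT t ht), rfl⟩) ?_
    refine lt_of_le_of_ne (map_subtype_le _) fun h => hg₁v ?_
    have h3 : g₁ ∈ St.map R.subtype := by rw [h]; exact hg₁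
    obtain ⟨p, hp, rfl⟩ := h3
    exact (hmemSt p).1 hp
  have h3 : NR ≤ St := by
    intro g hg
    rw [hSt, mem_comap, mem_centralizer_singleton_iff]
    exact (mem_centralizer_iff.1 hg _ (M.mem _)).symm
  have h4 : L.map R.subtype ≤ M₀ := by
    rw [hL, Subgroup.map_sup]
    refine sup_le ?_ ((map_mono h3).trans h2)
    rw [subgroupOf_map_subtype]
    exact h1
  rw [hLtop, ← MonoidHom.range_eq_map, range_subtype] at h4
  exact absurd h4 hM₀.not_ge

end main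

end Cfsg.Agent.Omega.NSix.Cen
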